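import Mathlib
import Groth.Prelude.Def_Flat

/-!
# Universal homeomorphisms

`isUnivHomeo_iff`: universal homeomorphism = integral + universally injective + surjective.
`isUnivHomeo_spec_iff`: for ring maps: integral, surjective on spectra, and field-valued points are unique.
-/

universe u

open CategoryTheory Limits AlgebraicGeometry

namespace Groth.Agent.AWN

theorem isHomeomorph_of_univHomeo {X Y : Scheme.{u}} {f : X ⟶ Y} (h : FlatMor.IsUnivHomeo f) : IsHomeomorph f.base :=
  h (𝟙 _) (𝟙 _) _ .of_id_snd

theorem isUnivHomeo_iff {X Y : Scheme.{u}} (f : X ⟶ Y) :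
    FlatMor.IsUnivHomeo f ↔ IsIntegralHom f ∧ UniversallyInjective f ∧ Surjective f := by
  constructor
  · intro h
    have h0 := isHomeomorph_of_univHomeo h
    haveI : UniversallyClosed f := ⟨fun X' Y' i j g hP => (h i j g hP).isClosedMap⟩
    haveI : IsAffineHom f := isAffineHom_of_isInducing f h0.isEmbedding.isInducing (by
      rw [h0.surjective.range_eq]; exact isClosed_univ)
    exact ⟨IsIntegralHom.iff_universallyClosed_and_isAffineHom.mpr ⟨‹_›, ‹_›⟩,
      ⟨fun X' Y' i j g hP => (h i j g hP).injective⟩, ⟨h0.surjective⟩⟩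
  · rintro ⟨h₁, h₂, h₃⟩ X' Y' i j g hP
    haveI : UniversallyClosed g := MorphismProperty.of_isPullback hP.flip (inferInstance : UniversallyClosed f)
    haveI : UniversallyInjective g := MorphismProperty.of_isPullback hP.flip h₂
    haveI : Surjective g := MorphismProperty.of_isPullback hP.flip h₃
    exact isHomeomorph_iff_continuous_isClosedMap_bijective.mpr
      ⟨g.continuous, g.isClosedMap, g.injective, g.surjective⟩

/-- Field-valued points are determined on `A`. -/
def HomInj {A B : Type u} [CommRing A] [CommRing B] (φ : A →+* B) : Prop :=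
  ∀ (K : Type u) [Field K] (g g' : B →+* K), g.comp φ = g'.comp φ → g = g'

theorem universallyInjective_spec_iff {A B : Type u} [CommRing A] [CommRing B] (φ : A →+* B) :
    UniversallyInjective (Spec.map (CommRingCat.ofHom φ)) ↔ HomInj φ := by
  refine ((tfae_universallyInjective (Spec.map (CommRingCat.ofHom φ))).out 0 1).trans ?_
  constructor
  · intro h K _ g g' hgg
    have h1 : Spec.map (CommRingCat.ofHom g) = Spec.map (CommRingCat.ofHom g') := h K (by
      show Spec.map _ ≫ Spec.map _ = Spec.map _ ≫ Spec.map _
      rw [← Spec.map_comp, ← Spec.map_comp]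
      exact congrArg Spec.map (CommRingCat.hom_ext hgg))
    exact congrArg CommRingCat.Hom.hom (Spec.map_injective h1)
  · intro h K _ g g' hgg
    obtain ⟨a, rfl⟩ := Spec.map_surjective g
    obtain ⟨a', rfl⟩ := Spec.map_surjective g'
    simp only [← Spec.map_comp] at hgg
    exact congrArg Spec.map (CommRingCat.hom_ext (h K a.hom a'.hom
      (congrArg CommRingCat.Hom.hom (Spec.map_injective hgg))))

theorem isUnivHomeo_spec_iff {A B : Type u} [CommRing A] [CommRing B] (φ : A →+* B) :
    FlatMor.IsUnivHomeo (Spec.map (CommRingCat.ofHom φ)) ↔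
      φ.IsIntegral ∧ HomInj φ ∧ Function.Surjective (PrimeSpectrum.comap φ) := by
  rw [isUnivHomeo_iff, universallyInjective_spec_iff, IsIntegralHom.SpecMap_iff, surjective_iff]
  rfl

end Groth.Agent.AWN
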