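import Mathlib
import Groth.Prelude.Def_HTop2
import Groth.Agent.AWN.Criterion

/-!
# Absolute weak normalisation of a ring

Inside a product `R` of algebraically closed fields the union `awnSub A R` of all integral subalgebras with
`HomInj` is final among universal homeomorphisms.
-/

universe u

namespace Groth.Agent.AWN

/-- Points with values in algebraically closed fields extend along integral maps. -/
theorem exists_extend_field {A C K : Type u} [CommRing A] [CommRing C] [Field K] [IsAlgClosed K]
    (ψ : A →+* C) (hψ : ψ.IsIntegral) (g : A →+* K) (hker : RingHom.ker ψ ≤ RingHom.ker g) :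
    ∃ h : C →+* K, h.comp ψ = g := by
  letI := ψ.toAlgebra
  haveI : Algebra.IsIntegral A C := ⟨hψ⟩
  haveI hp : (RingHom.ker g).IsPrime := RingHom.ker_isPrime g
  obtain ⟨q, -, hq, hqp⟩ := Ideal.exists_ideal_over_prime_of_isIntegral (RingHom.ker g) (⊥ : Ideal C)
    (by rw [← RingHom.ker_eq_comap_bot]; exact hker)
  haveI := hq
  let a : (RingHom.ker g).ResidueField →+* q.ResidueField := Ideal.ResidueField.map _ q (algebraMap A C) hqp.symm
  let b : (RingHom.ker g).ResidueField →+* K := Ideal.ResidueField.lift _ g le_rfl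
    (fun x hx => isUnit_iff_ne_zero.mpr fun h0 => hx (RingHom.mem_ker.mpr h0))
  letI := a.toAlgebra
  letI := b.toAlgebra
  haveI : Algebra.IsAlgebraic (RingHom.ker g).ResidueField q.ResidueField := by
    have hint : ∀ c : C, IsIntegral (RingHom.ker g).ResidueField (algebraMap C q.ResidueField c) := fun c => by
      obtain ⟨p, hp, hpc⟩ := hψ c
      refine ⟨p.map (algebraMap A _), hp.map _, ?_⟩
      rw [Polynomial.eval₂_map, show (algebraMap (RingHom.ker g).ResidueField q.ResidueField).comp
          (algebraMap A _) = (algebraMap C q.ResidueField).comp ψ from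
        RingHom.ext fun x => Ideal.ResidueField.map_algebraMap _ _ _ _ x, ← Polynomial.hom_eval₂, hpc, map_zero]
    refine ⟨fun x => IsIntegral.isAlgebraic ?_⟩
    obtain ⟨c, d, -, rfl⟩ := IsFractionRing.div_surjective (A := C ⧸ q) x
    obtain ⟨c, rfl⟩ := Ideal.Quotient.mk_surjective c
    obtain ⟨d, rfl⟩ := Ideal.Quotient.mk_surjective d
    rw [div_eq_mul_inv]
    exact (hint c).mul (hint d).inv
  refine ⟨(IsAlgClosed.lift (R := (RingHom.ker g).ResidueField) (S := q.ResidueField) (M := K)).toRingHom.comp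
    (algebraMap C q.ResidueField), RingHom.ext fun x => ?_⟩
  show IsAlgClosed.lift (R := (RingHom.ker g).ResidueField) (algebraMap C q.ResidueField (algebraMap A C x)) = g x
  rw [show algebraMap C q.ResidueField (algebraMap A C x) =
    algebraMap (RingHom.ker g).ResidueField q.ResidueField (algebraMap A _ x) from
    (Ideal.ResidueField.map_algebraMap _ _ (algebraMap A C) hqp.symm x).symm, AlgHom.commutes]
  exact Ideal.ResidueField.lift_algebraMap _ _ _ _ x

/-- Residue field extensions are trivial: field-valued images lie in the subfield generated by `A`. -/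
def ResTriv {A B : Type u} [CommRing A] [CommRing B] (φ : A →+* B) : Prop :=
  ∀ (K : Type u) [Field K] (g : B →+* K) (b : B), g b ∈ Subfield.closure (Set.range (g.comp φ))

/-- The condition on field-valued points: uniqueness, and triviality of residue fields if `sn`. -/
def Cond (sn : Prop) {A B : Type u} [CommRing A] [CommRing B] (φ : A →+* B) : Prop :=
  HomInj φ ∧ (sn → ResTriv φ)

variable (sn : Prop) (A R : Type u) [CommRing A] [CommRing R] [Algebra A R]

/-- Integral subalgebras satisfying `Cond`. -/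
def IsGood (C : Subalgebra A R) : Prop :=
  (∀ x ∈ C, IsIntegral A x) ∧ Cond sn (algebraMap A C)

/-- Their union. -/
def condSub : Subalgebra A R := ⨆ C : {C : Subalgebra A R // IsGood sn A R C}, C.1

/-- The case of absolute weak normalisation. -/
abbrev awnSub : Subalgebra A R := condSub False A R

variable {sn A R}

theorem le_condSub {C : Subalgebra A R} (h : IsGood sn A R C) : C ≤ condSub sn A R :=
  le_iSup (fun C : {C : Subalgebra A R // IsGood sn A R C} => C.1) ⟨C, h⟩

theorem isGood_condSub : IsGood sn A R (condSub sn A R) := by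
  refine ⟨fun x hx => (iSup_le (fun C x hx => C.2.1 x hx) : condSub sn A R ≤ integralClosure A R) hx, ?_, ?_⟩
  · intro K _ g g' hgg
    refine RingHom.ext fun x => ?_
    let E : Subalgebra A R :=
      { carrier := {z | ∃ hz : z ∈ condSub sn A R, g ⟨z, hz⟩ = g' ⟨z, hz⟩}
        mul_mem' := fun {a b} ⟨ha, ha'⟩ ⟨hb, hb'⟩ => ⟨mul_mem ha hb, by
          show g (⟨a, ha⟩ * ⟨b, hb⟩) = g' (⟨a, ha⟩ * ⟨b, hb⟩)
          rw [map_mul, map_mul, ha', hb']⟩
        add_mem' := fun {a b} ⟨ha, ha'⟩ ⟨hb, hb'⟩ => ⟨add_mem ha hb, by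
          show g (⟨a, ha⟩ + ⟨b, hb⟩) = g' (⟨a, ha⟩ + ⟨b, hb⟩)
          rw [map_add, map_add, ha', hb']⟩
        algebraMap_mem' := fun a => ⟨Subalgebra.algebraMap_mem _ a, RingHom.congr_fun hgg a⟩ }
    have hle : condSub sn A R ≤ E := iSup_le fun C z hz => ⟨le_condSub C.2 hz, by
      have h := C.2.2.1 K (g.comp (Subalgebra.inclusion (le_condSub C.2)).toRingHom)
        (g'.comp (Subalgebra.inclusion (le_condSub C.2)).toRingHom) (RingHom.ext fun a => RingHom.congr_fun hgg a)
      exact RingHom.congr_fun h ⟨z, hz⟩⟩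
    exact (hle x.2).choose_spec
  · intro hsn K _ g b
    let S := Subfield.closure (Set.range (g.comp (algebraMap A (condSub sn A R))))
    let E : Subalgebra A R :=
      { carrier := {z | ∃ hz : z ∈ condSub sn A R, g ⟨z, hz⟩ ∈ S}
        mul_mem' := fun {a b} ⟨ha, ha'⟩ ⟨hb, hb'⟩ => ⟨mul_mem ha hb, by
          show g (⟨a, ha⟩ * ⟨b, hb⟩) ∈ S
          rw [map_mul]; exact mul_mem ha' hb'⟩
        add_mem' := fun {a b} ⟨ha, ha'⟩ ⟨hb, hb'⟩ => ⟨add_mem ha hb, by
          show g (⟨a, ha⟩ + ⟨b, hb⟩) ∈ S
          rw [map_add]; exact add_mem ha' hb'⟩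
        algebraMap_mem' := fun a => ⟨Subalgebra.algebraMap_mem _ a, Subfield.subset_closure ⟨a, rfl⟩⟩ }
    have hle : condSub sn A R ≤ E := iSup_le fun C z hz => ⟨le_condSub C.2 hz,
      C.2.2.2 hsn K (g.comp (Subalgebra.inclusion (le_condSub C.2)).toRingHom) ⟨z, hz⟩⟩
    exact (hle b.2).choose_spec

/-- Images of rings satisfying `Cond` are good. -/
theorem isGood_range {C : Type u} [CommRing C] [Algebra A C] [Algebra.IsIntegral A C]
    (hC : Cond sn (algebraMap A C)) (χ : C →ₐ[A] R) : IsGood sn A R χ.range := by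
  refine ⟨fun x ⟨c, hc⟩ => hc ▸ (Algebra.IsIntegral.isIntegral c).map χ, fun K _ g g' hgg => ?_, fun hsn K _ g x => ?_⟩
  · have h := hC.1 K (g.comp χ.rangeRestrict.toRingHom) (g'.comp χ.rangeRestrict.toRingHom)
      (RingHom.ext fun a => by
        show g (χ.rangeRestrict (algebraMap A C a)) = g' (χ.rangeRestrict (algebraMap A C a))
        rw [AlgHom.commutes]; exact RingHom.congr_fun hgg a)
    refine RingHom.ext fun x => ?_
    obtain ⟨c, rfl⟩ := χ.rangeRestrict_surjective x
    exact RingHom.congr_fun h c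
  · obtain ⟨c, rfl⟩ := χ.rangeRestrict_surjective x
    refine Subfield.closure_mono ?_ (hC.2 hsn K (g.comp χ.rangeRestrict.toRingHom) c)
    rintro _ ⟨a, rfl⟩
    exact ⟨a, (congrArg g (χ.rangeRestrict.commutes a)).symm⟩

/-- Two homs into a product of fields agreeing on `A` are equal. -/
theorem hom_ext_pi {C : Type u} [CommRing C] {φ : A →+* C} (hC : HomInj φ) {ι : Type u} {F : ι → Type u}
    [∀ i, Field (F i)] {D : Type u} [CommRing D] (ev : D →+* ∀ i, F i) (hev : Function.Injective ev)
    {χ χ' : C →+* D} (h : χ.comp φ = χ'.comp φ) : χ = χ' := by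
  refine RingHom.ext fun c => hev (funext fun i => ?_)
  exact RingHom.congr_fun (hC (F i) (((Pi.evalRingHom F i).comp ev).comp χ) (((Pi.evalRingHom F i).comp ev).comp χ')
    (by rw [RingHom.comp_assoc, h, ← RingHom.comp_assoc])) c

/-- Universal homeomorphisms map to the product. -/
theorem exists_algHom_pi {C : Type u} [CommRing C] [Algebra A C] [Algebra.IsIntegral A C]
    (hsurj : Function.Surjective (PrimeSpectrum.comap (algebraMap A C)))
    {ι : Type u} (F : ι → Type u) [∀ i, Field (F i)] [∀ i, IsAlgClosed (F i)] (ev : A →+* ∀ i, F i) :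
    ∃ χ : C →+* ∀ i, F i, χ.comp (algebraMap A C) = ev := by
  have h : ∀ i, ∃ h : C →+* F i, h.comp (algebraMap A C) = (Pi.evalRingHom F i).comp ev := fun i => by
    refine exists_extend_field _ (fun c => Algebra.IsIntegral.isIntegral c) _ fun a ha => ?_
    obtain ⟨q, hq⟩ := hsurj ⟨RingHom.ker ((Pi.evalRingHom F i).comp ev), RingHom.ker_isPrime _⟩
    refine (congrArg PrimeSpectrum.asIdeal hq).le ?_
    show algebraMap A C a ∈ q.asIdeal
    rw [RingHom.mem_ker.mp ha]
    exact zero_mem _
  choose h hh using h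
  exact ⟨Pi.ringHom h, RingHom.ext fun a => funext fun i => RingHom.congr_fun (hh i) a⟩

/-- Good subalgebras of rings with the nilradical as kernel give surjective spectra. -/
theorem comap_surjective_of_integral (C : Subalgebra A R) (hC : ∀ x ∈ C, IsIntegral A x)
    (hker : RingHom.ker (algebraMap A R) ≤ nilradical A) :
    Function.Surjective (PrimeSpectrum.comap (algebraMap A C)) := by
  intro p
  haveI : Algebra.IsIntegral A C :=
    ⟨fun x => (isIntegral_algHom_iff C.val Subtype.val_injective).mp (hC x x.2)⟩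
  obtain ⟨q, -, hq, hqp⟩ := Ideal.exists_ideal_over_prime_of_isIntegral p.asIdeal (⊥ : Ideal C) (by
    rw [← RingHom.ker_eq_comap_bot]
    intro a ha
    exact nilradical_le_prime p.asIdeal (hker (by rw [RingHom.mem_ker, IsScalarTower.algebraMap_apply A C R,
      RingHom.mem_ker.mp ha, map_zero])))
  exact ⟨⟨q, hq⟩, PrimeSpectrum.ext hqp⟩

/-- Universality of `condSub` among rings with integral structure map satisfying `Cond`. -/
theorem exists_algHom_condSub {ι : Type u} {F : ι → Type u} [∀ i, Field (F i)] [∀ i, IsAlgClosed (F i)]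
    [Algebra A (∀ i, F i)] {C : Type u} [CommRing C] [Algebra A C] [Algebra.IsIntegral A C]
    (hC : Cond sn (algebraMap A C)) (hsurj : Function.Surjective (PrimeSpectrum.comap (algebraMap A C))) :
    Nonempty (C →ₐ[A] condSub sn A (∀ i, F i)) := by
  obtain ⟨χ, hχ⟩ := exists_algHom_pi hsurj F (algebraMap A _)
  let χ' : C →ₐ[A] ∀ i, F i := { χ with commutes' := fun a => RingHom.congr_fun hχ a }
  exact ⟨(Subalgebra.inclusion (le_condSub (isGood_range hC χ'))).comp χ'.rangeRestrict⟩

/-- The AWN of `A`, given a faithful product of algebraically closed fields. -/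
theorem isRingAWN_awnSub {ι : Type u} {F : ι → Type u} [∀ i, Field (F i)] [∀ i, IsAlgClosed (F i)]
    [Algebra A (∀ i, F i)] (hker : RingHom.ker (algebraMap A (∀ i, F i)) ≤ nilradical A) :
    HTop.IsRingAWN (algebraMap A (awnSub A (∀ i, F i))) := by
  obtain ⟨hint, hinj, -⟩ := isGood_condSub (sn := False) (A := A) (R := ∀ i, F i)
  refine ⟨(isUnivHomeo_spec_iff _).mpr ⟨fun x => ?_, hinj, comap_surjective_of_integral _ hint hker⟩, ?_⟩
  · exact (isIntegral_algHom_iff (awnSub A (∀ i, F i)).val Subtype.val_injective).mp (hint x x.2)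
  intro C _ ψ hψ
  obtain ⟨hψi, hψj, hψs⟩ := (isUnivHomeo_spec_iff ψ).mp hψ
  letI := ψ.toAlgebra
  haveI : Algebra.IsIntegral A C := ⟨hψi⟩
  obtain ⟨χ⟩ := exists_algHom_condSub (sn := False) (F := F) (C := C) ⟨hψj, False.elim⟩ hψs
  refine ⟨χ.toRingHom, RingHom.ext fun a => χ.commutes a, fun χ'' h'' => ?_⟩
  exact hom_ext_pi hψj (awnSub A (∀ i, F i)).val.toRingHom Subtype.val_injective
    (h''.trans (RingHom.ext fun a => (χ.commutes a).symm))

end Groth.Agent.AWN
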