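import Mathlib
import Groth.Prelude.Def_HTop2
import Groth.Agent.AWN.Ring
import Groth.Agent.Eta.UnivHomeo

/-!
# Universal homeomorphisms with a condition on residue fields, and local universality
-/

set_option backward.isDefEq.respectTransparency false

universe u

open CategoryTheory Limits AlgebraicGeometry

namespace Groth.Agent.AWN

/-- Trivial residue fields in terms of field-valued points. -/
theorem resTriv_iff {A B : Type u} [CommRing A] [CommRing B] (φ : A →+* B) :
    ResTriv φ ↔ HTop.ResidueFieldsIso (Spec.map (CommRingCat.ofHom φ)) := by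
  constructor
  · intro h q
    refine (Eta.residueFieldMap_bijective_iff φ q).mpr ⟨RingHom.injective _, ?_⟩
    let m := Ideal.ResidueField.map (PrimeSpectrum.comap φ q).asIdeal q.asIdeal φ rfl
    have hc : ∀ b : B, algebraMap B q.asIdeal.ResidueField b ∈ m.fieldRange := fun b => by
      refine Subfield.closure_le.mpr ?_ (h _ (algebraMap B q.asIdeal.ResidueField) b)
      rintro _ ⟨a, rfl⟩
      exact ⟨algebraMap A _ a, Ideal.ResidueField.map_algebraMap _ _ _ _ a⟩
    intro x
    obtain ⟨c, d, -, rfl⟩ := IsFractionRing.div_surjective (A := B ⧸ q.asIdeal) x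
    obtain ⟨c, rfl⟩ := Ideal.Quotient.mk_surjective c
    obtain ⟨d, rfl⟩ := Ideal.Quotient.mk_surjective d
    exact div_mem (hc c) (hc d)
  · intro h K _ g b
    haveI := RingHom.ker_isPrime g
    let q : PrimeSpectrum B := ⟨RingHom.ker g, inferInstance⟩
    let gb : q.asIdeal.ResidueField →+* K := Ideal.ResidueField.lift _ g le_rfl
      (fun x hx => isUnit_iff_ne_zero.mpr fun h0 => hx (RingHom.mem_ker.mpr h0))
    obtain ⟨y, hy⟩ := Eta.surjective_residue_of_residueFieldsIso φ h q (algebraMap B _ b)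
    obtain ⟨c, d, -, rfl⟩ := IsFractionRing.div_surjective (A := A ⧸ (PrimeSpectrum.comap φ q).asIdeal) y
    obtain ⟨c, rfl⟩ := Ideal.Quotient.mk_surjective c
    obtain ⟨d, rfl⟩ := Ideal.Quotient.mk_surjective d
    have he : ∀ a : A, gb (Ideal.ResidueField.map (PrimeSpectrum.comap φ q).asIdeal q.asIdeal φ rfl
        (algebraMap A _ a)) = g (φ a) := fun a => by
      rw [Ideal.ResidueField.map_algebraMap]; exact Ideal.ResidueField.lift_algebraMap _ _ _ _ _
    have h2 := congrArg gb hy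
    rw [map_div₀, map_div₀, Ideal.ResidueField.lift_algebraMap] at h2
    rw [← h2]
    exact div_mem (Subfield.subset_closure ⟨c, (he c).symm⟩) (Subfield.subset_closure ⟨d, (he d).symm⟩)

variable (sn : Prop)

/-- Universal homeomorphisms, with trivial residue fields if `sn`. -/
def CondHom {X Y : Scheme.{u}} (f : X ⟶ Y) : Prop :=
  FlatMor.IsUnivHomeo f ∧ (sn → HTop.ResidueFieldsIso f)

variable {sn}

theorem condHom_spec_iff {A B : Type u} [CommRing A] [CommRing B] (φ : A →+* B) :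
    CondHom sn (Spec.map (CommRingCat.ofHom φ)) ↔
      φ.IsIntegral ∧ Cond sn φ ∧ Function.Surjective (PrimeSpectrum.comap φ) := by
  rw [CondHom, isUnivHomeo_spec_iff, Cond, resTriv_iff]
  tauto

/-- Morphisms from reduced schemes are determined after composing with a universally injective affine map. -/
theorem hom_ext {T X Y : Scheme.{u}} [IsReduced T] (π : Y ⟶ X) [UniversallyInjective π] [IsSeparated π]
    {a b : T ⟶ Y} (h : a ≫ π = b ≫ π) : a = b :=
  ext_of_fromSpecResidueField_eq a b π Set.univ dense_univ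
    (fun x _ => by
      have hinj := ((tfae_universallyInjective π).out 0 1).mp ‹UniversallyInjective π›
      exact hinj (T.residueField x) (by
        show (T.fromSpecResidueField x ≫ a) ≫ π = (T.fromSpecResidueField x ≫ b) ≫ π
        rw [Category.assoc, Category.assoc, h])) h

theorem CondHom.integral {X Y : Scheme.{u}} {f : X ⟶ Y} (h : CondHom sn f) : IsIntegralHom f :=
  ((isUnivHomeo_iff f).mp h.1).1

theorem CondHom.univInj {X Y : Scheme.{u}} {f : X ⟶ Y} (h : CondHom sn f) : UniversallyInjective f :=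
  ((isUnivHomeo_iff f).mp h.1).2.1

theorem isUnivHomeo_of_isIso {X Y : Scheme.{u}} (f : X ⟶ Y) [IsIso f] : FlatMor.IsUnivHomeo f :=
  (isUnivHomeo_iff f).mpr ⟨inferInstance, inferInstance, inferInstance⟩

theorem condHom_of_isIso {X Y : Scheme.{u}} (f : X ⟶ Y) [IsIso f] : CondHom sn f :=
  ⟨isUnivHomeo_of_isIso f, fun _ _ => inferInstance⟩

theorem CondHom.comp {X Y Z : Scheme.{u}} {f : X ⟶ Y} {g : Y ⟶ Z} (hf : CondHom sn f) (hg : CondHom sn g) :
    CondHom sn (f ≫ g) := by
  obtain ⟨h1, h2, h3⟩ := (isUnivHomeo_iff f).mp hf.1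
  obtain ⟨h4, h5, h6⟩ := (isUnivHomeo_iff g).mp hg.1
  refine ⟨(isUnivHomeo_iff _).mpr ⟨inferInstance, MorphismProperty.comp_mem _ _ _ h2 h5, inferInstance⟩, fun hs x => ?_⟩
  haveI := hf.2 hs x
  haveI := hg.2 hs (f x)
  rw [Scheme.residueFieldMap_comp]
  infer_instance

/-- Base change along open immersions. -/
theorem CondHom.of_isPullback {X Y X' Y' : Scheme.{u}} {f : X ⟶ Y} {f' : X' ⟶ Y'} {a : X' ⟶ X} {b : Y' ⟶ Y}
    (hf : CondHom sn f) (h : IsPullback a f' f b) [IsOpenImmersion b] : CondHom sn f' := by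
  haveI : IsOpenImmersion a := MorphismProperty.of_isPullback h.flip ‹IsOpenImmersion b›
  refine ⟨?_, fun hs x => ?_⟩
  · obtain ⟨h1, h2, h3⟩ := (isUnivHomeo_iff f).mp hf.1
    exact (isUnivHomeo_iff f').mpr ⟨MorphismProperty.of_isPullback h h1, MorphismProperty.of_isPullback h h2,
      MorphismProperty.of_isPullback h h3⟩
  · haveI := hf.2 hs (a x)
    have h1 : IsIso ((a ≫ f).residueFieldMap x) := by
      rw [Scheme.residueFieldMap_comp]; infer_instance
    rw [Scheme.Hom.residueFieldMap_congr h.w, Scheme.residueFieldMap_comp] at h1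
    exact (isIso_comp_left_iff (b.residueFieldMap (f' x)) _).mp ((isIso_comp_left_iff _ _).mp h1)

variable (sn) in
/-- Local universality. -/
def LocUniv {X' X : Scheme.{u}} (ν : X' ⟶ X) : Prop :=
  IsReduced X' ∧ CondHom sn ν ∧ ∀ (V Y : Scheme.{u}) [IsAffine V] (j : V ⟶ X) [IsOpenImmersion j] (π : Y ⟶ V),
    CondHom sn π → ∃ m : pullback ν j ⟶ Y, m ≫ π = pullback.snd ν j

/-- Local universality implies universality. -/
theorem LocUniv.existsUnique {X' X : Scheme.{u}} {ν : X' ⟶ X} (h : LocUniv sn ν) (Y : Scheme.{u}) (π : Y ⟶ X)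
    (hπ : CondHom sn π) : ∃! g : X' ⟶ Y, g ≫ π = ν := by
  haveI := h.1
  haveI := hπ.integral
  haveI := hπ.univInj
  let 𝒰 := X.affineCover
  have hloc : ∀ i, ∃ m : pullback ν (𝒰.f i) ⟶ Y, m ≫ π = pullback.fst ν (𝒰.f i) ≫ ν := fun i => by
    obtain ⟨m, hm⟩ := h.2.2 (𝒰.X i) (pullback π (𝒰.f i)) (𝒰.f i) (pullback.snd π (𝒰.f i))
      (hπ.of_isPullback (IsPullback.of_hasPullback π (𝒰.f i)))
    exact ⟨m ≫ pullback.fst _ _, by rw [Category.assoc, pullback.condition, ← Category.assoc, hm, pullback.condition]⟩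
  choose m hm using hloc
  let 𝒱 := 𝒰.pullback₁ ν
  have hcompat : ∀ i k, pullback.fst (𝒱.f i) (𝒱.f k) ≫ m i = pullback.snd _ _ ≫ m k := fun i k => by
    haveI : IsReduced (pullback (𝒱.f i) (𝒱.f k)) :=
      isReduced_of_isOpenImmersion (pullback.fst (𝒱.f i) (𝒱.f k) ≫ 𝒱.f i)
    refine hom_ext π ?_
    rw [Category.assoc, Category.assoc]
    show _ ≫ m i ≫ π = _ ≫ m k ≫ π
    rw [hm, hm, ← Category.assoc, ← Category.assoc]
    exact congrArg (· ≫ ν) pullback.condition
  refine ⟨Scheme.Cover.glueMorphisms 𝒱 m hcompat, ?_, fun g hg => hom_ext π (hg.trans (Eq.symm ?_))⟩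
  all_goals
    refine Scheme.Cover.hom_ext 𝒱 _ _ fun i => ?_
    rw [Scheme.Cover.ι_glueMorphisms_assoc]
    exact hm i

theorem LocUniv.isAWNormalization {X' X : Scheme.{u}} {ν : X' ⟶ X} (h : LocUniv False ν) :
    HTop.IsAWNormalization ν :=
  ⟨h.2.1.1, fun Y π hπ => h.existsUnique Y π ⟨hπ, False.elim⟩⟩

theorem LocUniv.isSeminormalization {X' X : Scheme.{u}} {ν : X' ⟶ X} (h : LocUniv True ν) :
    HTop.IsSeminormalization ν :=
  ⟨⟨h.2.1.1, h.2.1.2 trivial⟩, fun Y π hπ hres => h.existsUnique Y π ⟨hπ, fun _ => hres⟩⟩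

/-- Restriction to opens. -/
theorem LocUniv.restrict {X' X : Scheme.{u}} {ν : X' ⟶ X} (h : LocUniv sn ν) (U : X.Opens) :
    LocUniv sn (ν ∣_ U) := by
  haveI := h.1
  refine ⟨inferInstance, h.2.1.of_isPullback (isPullback_morphismRestrict ν U).flip, fun V Y _ j _ π hπ => ?_⟩
  obtain ⟨m, hm⟩ := h.2.2 V Y (j ≫ U.ι) π hπ
  have hpb := (IsPullback.of_hasPullback (ν ∣_ U) j).paste_horiz (isPullback_morphismRestrict ν U).flip
  exact ⟨hpb.isoPullback.hom ≫ m, by rw [Category.assoc, hm]; exact hpb.isoPullback_hom_snd⟩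

/-- Local universality is invariant under isomorphism of the source. -/
theorem LocUniv.of_iso {X'' X' X : Scheme.{u}} {ν : X' ⟶ X} (h : LocUniv sn ν) (e : X'' ⟶ X') [IsIso e] :
    LocUniv sn (e ≫ ν) := by
  haveI := h.1
  refine ⟨isReduced_of_isOpenImmersion e, (condHom_of_isIso e).comp h.2.1, fun V Y _ j _ π hπ => ?_⟩
  obtain ⟨m, hm⟩ := h.2.2 V Y j π hπ
  refine ⟨pullback.map (e ≫ ν) j ν j e (𝟙 _) (𝟙 _) (by simp) (by simp) ≫ m, ?_⟩
  rw [Category.assoc, hm, pullback.lift_snd, Category.comp_id]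

end Groth.Agent.AWN
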