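import Mathlib
import Groth.Agent.AWN.Hom

/-!
# Finite universal homeomorphisms under a universal homeomorphism from a reduced scheme
-/

set_option backward.isDefEq.respectTransparency false

universe u

open CategoryTheory Limits AlgebraicGeometry

namespace Groth.Agent.AWN

variable {sn : Prop}

/-- A morphism sandwiched below a surjection from a universal homeomorphism is one, given universal injectivity. -/
theorem condHom_of_surjective_factor {T' T₁ T : Scheme.{u}} {ν : T' ⟶ T} (hν : CondHom sn ν) (π : T₁ ⟶ T)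
    [IsIntegralHom π] [UniversallyInjective π] (h : T' ⟶ T₁) (hh : h ≫ π = ν) :
    CondHom sn π ∧ Surjective h := by
  obtain ⟨-, hνj, hνs⟩ := (isUnivHomeo_iff ν).mp hν.1
  subst hh
  haveI : Surjective π := Surjective.of_comp h π
  haveI hhs : Surjective h := ⟨fun t => by
    obtain ⟨t', ht'⟩ := (h ≫ π).surjective (π t)
    exact ⟨t', π.injective (by rwa [Scheme.Hom.comp_apply] at ht')⟩⟩
  refine ⟨⟨(isUnivHomeo_iff π).mpr ⟨inferInstance, inferInstance, inferInstance⟩, fun hs t => ?_⟩, hhs⟩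
  obtain ⟨t', rfl⟩ := h.surjective t
  haveI := hν.2 hs t'
  have h1 := (ConcreteCategory.isIso_iff_bijective _).mp this
  rw [Scheme.residueFieldMap_comp] at h1
  refine (ConcreteCategory.isIso_iff_bijective _).mpr ⟨RingHom.injective _, fun y => ?_⟩
  obtain ⟨x, hx⟩ := h1.2 ((h.residueFieldMap t').hom y)
  exact ⟨x, (h.residueFieldMap t').hom.injective hx⟩

/-- Two factorisations become equal on a common finite universal homeomorphism. -/
theorem exists_common_equalizer {X T' T T₁ T₂ : Scheme.{u}} [X.IsSeparated] {ν : T' ⟶ T} (hν : CondHom sn ν)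
    (π₁ : T₁ ⟶ T) (π₂ : T₂ ⟶ T) [IsFinite π₁] [IsFinite π₂] (h1 : CondHom sn π₁) (h2 : CondHom sn π₂)
    (g₁ : T₁ ⟶ X) (g₂ : T₂ ⟶ X) (a₁ : T' ⟶ T₁) (a₂ : T' ⟶ T₂) (e₁ : a₁ ≫ π₁ = ν) (e₂ : a₂ ≫ π₂ = ν)
    (he : a₁ ≫ g₁ = a₂ ≫ g₂) :
    ∃ (T₃ : Scheme.{u}) (π₃ : T₃ ⟶ T) (_ : IsFinite π₃) (_ : CondHom sn π₃)
      (b₁ : T₃ ⟶ T₁) (b₂ : T₃ ⟶ T₂), b₁ ≫ π₁ = π₃ ∧ b₂ ≫ π₂ = π₃ ∧ b₁ ≫ g₁ = b₂ ≫ g₂ := by
  haveI := h1.univInj
  haveI := h2.univInj
  let u := pullback.fst π₁ π₂ ≫ g₁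
  let v := pullback.snd π₁ π₂ ≫ g₂
  let P₃ := equalizer u v
  let l : T' ⟶ P₃ := equalizer.lift (pullback.lift a₁ a₂ (e₁.trans e₂.symm)) (by simp [u, v, he])
  let π₃ : P₃ ⟶ T := equalizer.ι u v ≫ pullback.fst π₁ π₂ ≫ π₁
  haveI : UniversallyInjective (pullback.fst π₁ π₂) := MorphismProperty.pullback_fst _ _ h2.univInj
  haveI : UniversallyInjective π₃ :=
    MorphismProperty.comp_mem _ _ _ inferInstance (MorphismProperty.comp_mem _ _ _ inferInstance h1.univInj)
  haveI : IsFinite π₃ := inferInstance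
  refine ⟨P₃, π₃, inferInstance, (condHom_of_surjective_factor hν π₃ l (by simp [l, π₃, e₁])).1,
    equalizer.ι u v ≫ pullback.fst _ _, equalizer.ι u v ≫ pullback.snd _ _, by simp [π₃],
    by simp [π₃, pullback.condition], ?_⟩
  rw [Category.assoc, Category.assoc]
  exact equalizer.condition u v

end Groth.Agent.AWN
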