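import Mathlib
import Groth.Agent.AICPoint.Glue
import Groth.Agent.AWN.Hom

/-!
# Absolute weak normalisation and seminormalisation of a scheme
-/

set_option backward.isDefEq.respectTransparency false

noncomputable section

universe u

namespace Groth.Agent.AWN

open CategoryTheory Limits AlgebraicGeometry TopologicalSpace Scheme.AffineZariskiSite AICPoint

variable (sn : Prop) (S : Scheme.{u})

/-- Sections. -/
def bSub (U : S.Opens) : Subring (ptsProd S U) :=
  letI := (evalPts S U).toAlgebra
  (condSub sn Γ(S, U) (ptsProd S U)).toSubring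

lemma evalPts_mem_bSub (U : S.Opens) (a : Γ(S, U)) : evalPts S U a ∈ bSub sn S U :=
  letI := (evalPts S U).toAlgebra
  (condSub sn Γ(S, U) (ptsProd S U)).algebraMap_mem a

/-- The structure map. -/
def toB (U : S.Opens) : Γ(S, U) →+* bSub sn S U := (evalPts S U).codRestrict _ (evalPts_mem_bSub sn S U)

lemma cond_toB (U : S.Opens) : Cond sn (toB sn S U) :=
  letI := (evalPts S U).toAlgebra
  (isGood_condSub (sn := sn) (A := Γ(S, U)) (R := ptsProd S U)).2

lemma bSub_le (U : S.Opens) : bSub sn S U ≤ intSub S U := fun x hx =>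
  letI := (evalPts S U).toAlgebra
  (isGood_condSub (sn := sn) (A := Γ(S, U)) (R := ptsProd S U)).1 x hx

lemma mem_bSub_of_good {U : S.Opens} (t : Set (ptsProd S U)) (ht : t ⊆ intSub S U)
    (hinj : ∀ (K : Type u) [Field K] (g g' : Subring.closure (Set.range (evalPts S U) ∪ t) →+* K),
      (∀ a, g ⟨evalPts S U a, Subring.subset_closure (Or.inl ⟨a, rfl⟩)⟩ =
        g' ⟨evalPts S U a, Subring.subset_closure (Or.inl ⟨a, rfl⟩)⟩) →
      ∀ x (hx : x ∈ t), g ⟨x, Subring.subset_closure (Or.inr hx)⟩ = g' ⟨x, Subring.subset_closure (Or.inr hx)⟩)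
    (hres : sn → ∀ (K : Type u) [Field K] (g : Subring.closure (Set.range (evalPts S U) ∪ t) →+* K),
      ∀ x (hx : x ∈ t), g ⟨x, Subring.subset_closure (Or.inr hx)⟩ ∈
        Subfield.closure (Set.range fun a => g ⟨evalPts S U a, Subring.subset_closure (Or.inl ⟨a, rfl⟩)⟩)) :
    t ⊆ bSub sn S U := by
  letI := (evalPts S U).toAlgebra
  let C := Algebra.adjoin Γ(S, U) t
  have hC : C.toSubring = Subring.closure (Set.range (evalPts S U) ∪ t) := Algebra.adjoin_eq_ring_closure _
  let e : Subring.closure (Set.range (evalPts S U) ∪ t) →+* C :=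
    (Subring.inclusion hC.ge : _ →+* C.toSubring)
  have hgood : IsGood sn Γ(S, U) (ptsProd S U) C := by
    refine ⟨fun x hx => (Algebra.adjoin_le (fun y hy => ht hy) :
      C ≤ integralClosure Γ(S, U) (ptsProd S U)) hx, fun K _ g g' hgg => ?_, fun hsn K _ g x => ?_⟩
    · refine RingHom.ext fun x => ?_
      obtain ⟨x, hx⟩ := x
      induction hx using Algebra.adjoin_induction with
      | mem y hy => exact hinj K (g.comp e) (g'.comp e) (fun a => RingHom.congr_fun hgg a) y hy
      | algebraMap a => exact RingHom.congr_fun hgg a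
      | add y z hy hz h h' =>
        show g (⟨y, hy⟩ + ⟨z, hz⟩) = g' (⟨y, hy⟩ + ⟨z, hz⟩)
        rw [map_add, map_add, h, h']
      | mul y z hy hz h h' =>
        show g (⟨y, hy⟩ * ⟨z, hz⟩) = g' (⟨y, hy⟩ * ⟨z, hz⟩)
        rw [map_mul, map_mul, h, h']
    · obtain ⟨x, hx⟩ := x
      induction hx using Algebra.adjoin_induction with
      | mem y hy => exact hres hsn K (g.comp e) y hy
      | algebraMap a => exact Subfield.subset_closure ⟨a, rfl⟩
      | add y z hy hz h h' =>
        show g (⟨y, hy⟩ + ⟨z, hz⟩) ∈ _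
        rw [map_add]; exact add_mem h h'
      | mul y z hy hz h h' =>
        show g (⟨y, hy⟩ * ⟨z, hz⟩) ∈ _
        rw [map_mul]; exact mul_mem h h'
  exact fun x hx => le_condSub hgood (Algebra.subset_adjoin hx)

lemma resPts_mem_bSub {U V : S.Opens} (h : U ≤ V) {z : ptsProd S V} (hz : z ∈ bSub sn S V) :
    resPts S h z ∈ bSub sn S U := by
  refine mem_bSub_of_good sn S (resPts S h '' bSub sn S V) ?_ ?_ ?_ ⟨z, hz, rfl⟩
  · rintro _ ⟨y, hy, rfl⟩
    exact resPts_mem S h (bSub_le sn S V hy)
  all_goals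
    let i : bSub sn S V →+* Subring.closure (Set.range (evalPts S U) ∪ resPts S h '' bSub sn S V) :=
      ((resPts S h).comp (bSub sn S V).subtype).codRestrict _ fun y => Subring.subset_closure (Or.inr ⟨y, y.2, rfl⟩)
    have hi : ∀ a, i (toB sn S V a) =
        ⟨evalPts S U (S.presheaf.map (homOfLE h).op a), Subring.subset_closure (Or.inl ⟨_, rfl⟩)⟩ :=
      fun a => Subtype.ext (resPts_evalPts S h a)
  · rintro K _ g g' hgg _ ⟨y, hy, rfl⟩
    refine RingHom.congr_fun ((cond_toB sn S V).1 K (g.comp i) (g'.comp i) (RingHom.ext fun a => ?_)) ⟨y, hy⟩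
    simp only [RingHom.comp_apply, hi]
    exact hgg _
  · rintro hsn K _ g _ ⟨y, hy, rfl⟩
    refine Subfield.closure_mono ?_ ((cond_toB sn S V).2 hsn K (g.comp i) ⟨y, hy⟩)
    rintro _ ⟨a, rfl⟩
    exact ⟨_, (congrArg g (hi a)).symm⟩

/-- The presheaf of rings on the affine opens. -/
def diagram : S.AffineZariskiSiteᵒᵖ ⥤ CommRingCat.{u} where
  obj U := .of (bSub sn S U.unop.1)
  map {V U} i := CommRingCat.ofHom ((resPts S (toOpens_mono i.unop.le)).restrict _ _
    fun x hx => resPts_mem_bSub sn S (toOpens_mono i.unop.le) hx)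
  map_id U := by
    ext x
    rfl
  map_comp i j := by
    ext x
    rfl

/-- The structure maps. -/
def diagramMap : (toOpensFunctor S).op ⋙ S.presheaf ⟶ diagram sn S where
  app U := CommRingCat.ofHom (toB sn S U.unop.1)
  naturality {V U} i := by
    ext a
    apply Subtype.ext
    exact (resPts_evalPts S (toOpens_mono i.unop.le) a).symm

/-- A section with integral multiple extends by zero to a section of `bSub`. -/
lemma exists_extension (U : S.affineOpens) (r : Γ(S, U.1)) {z : ptsProd S (S.basicOpen r)}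
    (hz : z ∈ bSub sn S (S.basicOpen r)) :
    ∃ (k : ℕ) (w : ptsProd S U.1), w ∈ bSub sn S U.1 ∧
      z * resPts S (S.basicOpen_le r) (evalPts S U.1 r) ^ k = resPts S (S.basicOpen_le r) w := by
  classical
  let V : S.Opens := S.basicOpen r
  have hle : V ≤ U.1 := S.basicOpen_le r
  let ρ : intSub S U.1 →+* intSub S V := (resPts S hle).restrict _ _ fun x hx => resPts_mem S hle hx
  set r' : intSub S U.1 := ⟨evalPts S U.1 r, evalPts_mem S U.1 r⟩
  letI := ρ.toAlgebra
  haveI : IsLocalization.Away r' (intSub S V) :=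
    (coequifibered_iff_forall_isLocalizationAway.mp (AICPoint.coequifibered S)) U r
  obtain ⟨⟨w₀, ⟨_, k, rfl⟩⟩, hw₀⟩ := IsLocalization.surj (Submonoid.powers r') (⟨z, bSub_le sn S V hz⟩ : intSub S V)
  let w : ptsProd S U.1 := evalPts S U.1 r * w₀.1
  have hw : w ∈ intSub S U.1 := mul_mem (evalPts_mem S U.1 r) w₀.2
  have hres0 : z * resPts S hle (evalPts S U.1 r) ^ k = resPts S hle w₀.1 := by
    have := congrArg Subtype.val hw₀
    rw [← map_pow]
    exact this
  have hres : z * resPts S hle (evalPts S U.1 r) ^ (k + 1) = resPts S hle w := by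
    rw [map_mul, ← hres0, pow_succ]; ring
  refine ⟨k + 1, w, ?_, hres⟩
  -- integral equation with coefficients divisible by `r`
  obtain ⟨p, hp, hpz⟩ := w₀.2
  let T := Subring.closure (Set.range (evalPts S U.1) ∪ {w})
  let ε : Γ(S, U.1) →+* T := (evalPts S U.1).codRestrict T fun a => Subring.subset_closure (Or.inl ⟨a, rfl⟩)
  have key : ∀ (K : Type u) [Field K] (g : T →+* K), g (ε r) = 0 →
      g ⟨w, Subring.subset_closure (Or.inr rfl)⟩ = 0 := by
    intro K _ g hg
    have h1 : Polynomial.eval₂ (evalPts S U.1) w (p.scaleRoots r) = 0 := by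
      show Polynomial.eval₂ (evalPts S U.1) (evalPts S U.1 r * w₀.1) (p.scaleRoots r) = 0
      rw [Polynomial.scaleRoots_eval₂_mul]
      exact mul_eq_zero_of_right _ hpz
    have h2 : Polynomial.eval₂ ε ⟨w, Subring.subset_closure (Or.inr rfl)⟩ (p.scaleRoots r) = 0 := Subtype.ext (by
      show T.subtype _ = 0
      rw [Polynomial.hom_eval₂]; exact h1)
    have h3 : Polynomial.eval (g ⟨w, Subring.subset_closure (Or.inr rfl)⟩) ((p.scaleRoots r).map (g.comp ε)) = 0 := by
      rw [Polynomial.eval_map, ← Polynomial.hom_eval₂, h2, map_zero]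
    rw [Polynomial.map_scaleRoots _ _ _ (by rw [hp.leadingCoeff, map_one]; exact one_ne_zero), RingHom.comp_apply, hg,
      Polynomial.scaleRoots_zero, Polynomial.eval_smul, Polynomial.eval_pow, Polynomial.eval_X, (hp.map _).leadingCoeff,
      one_smul] at h3
    exact pow_eq_zero_iff' .. |>.mp h3 |>.1
  -- extension of points off the zero locus of `r`
  have ext1 : ∀ (K : Type u) [Field K] (g : T →+* K), g (ε r) ≠ 0 →
      ∃ G : intSub S V →+* AlgebraicClosure K,
        (∀ a, G ⟨evalPts S V (S.presheaf.map (homOfLE hle).op a), evalPts_mem S V _⟩ = algebraMap K _ (g (ε a))) ∧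
          G ⟨resPts S hle w, resPts_mem S hle hw⟩ = algebraMap K _ (g ⟨w, Subring.subset_closure (Or.inr rfl)⟩) := by
    intro K _ g hg
    let ι : T →+* intSub S U.1 := Subring.inclusion (Subring.closure_le.mpr (Set.union_subset
      (fun _ ⟨a, ha⟩ => ha ▸ evalPts_mem S U.1 a) (Set.singleton_subset_iff.mpr hw)))
    have hι : ι.IsIntegral := fun x => by
      obtain ⟨q, hq, hqx⟩ := x.2
      refine ⟨q.map ε, hq.map _, Subtype.ext ?_⟩
      show (intSub S U.1).subtype _ = 0
      rw [Polynomial.eval₂_map, Polynomial.hom_eval₂]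
      exact hqx
    obtain ⟨G, hG⟩ := exists_extend_field ι hι ((algebraMap K (AlgebraicClosure K)).comp g) (by
      intro x hx
      rw [RingHom.mem_ker] at hx ⊢
      have : x = 0 := Subtype.ext (show (x : ptsProd S U.1) = ((0 : intSub S U.1) : ptsProd S U.1) from congrArg Subtype.val hx)
      rw [this, map_zero])
    have hGr : ∀ y : Submonoid.powers r', IsUnit (G y) := by
      rintro ⟨_, n, rfl⟩
      rw [map_pow]
      refine (isUnit_iff_ne_zero.mpr ?_).pow n
      rw [show G r' = algebraMap K (AlgebraicClosure K) (g (ε r)) from RingHom.congr_fun hG (ε r)]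
      exact (map_ne_zero_iff _ (RingHom.injective _)).mpr hg
    refine ⟨IsLocalization.lift hGr, fun a => ?_, ?_⟩
    · rw [show (⟨evalPts S V (S.presheaf.map (homOfLE hle).op a), evalPts_mem S V _⟩ : intSub S V) =
          algebraMap _ _ (ι (ε a)) from Subtype.ext (resPts_evalPts S hle a).symm, IsLocalization.lift_eq]
      exact RingHom.congr_fun hG (ε a)
    · rw [show (⟨resPts S hle w, resPts_mem S hle hw⟩ : intSub S V) =
          algebraMap _ _ (ι ⟨w, Subring.subset_closure (Or.inr rfl)⟩) from rfl, IsLocalization.lift_eq]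
      exact RingHom.congr_fun hG _
  have hwV : resPts S hle w ∈ bSub sn S V := by
    rw [← hres, resPts_evalPts]
    exact mul_mem hz (pow_mem (evalPts_mem_bSub sn S V _) _)
  let j : bSub sn S V →+* intSub S V := Subring.inclusion (bSub_le sn S V)
  -- values on the localised base
  have hloc : ∀ (L : Type u) [Field L] (G G' : intSub S V →+* L),
      (∀ a, G ⟨evalPts S V (S.presheaf.map (homOfLE hle).op a), evalPts_mem S V _⟩ =
        G' ⟨evalPts S V (S.presheaf.map (homOfLE hle).op a), evalPts_mem S V _⟩) →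
      (G.comp j).comp (toB sn S V) = (G'.comp j).comp (toB sn S V) := by
    intro L _ G G' h
    letI : Algebra Γ(S, U.1) Γ(S, V) := (S.presheaf.map (homOfLE hle).op).hom.toAlgebra
    haveI : IsLocalization.Away r Γ(S, V) := U.2.isLocalization_basicOpen r
    exact IsLocalization.ringHom_ext (Submonoid.powers r) (RingHom.ext h)
  refine mem_bSub_of_good sn S {w} (Set.singleton_subset_iff.mpr hw) ?_ ?_ rfl
  · intro K _ g g' hgg x hx
    obtain rfl : x = w := hx
    by_cases hr : g (ε r) = 0
    · rw [key K g hr, key K g' ((hgg r).symm.trans hr)]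
    · obtain ⟨G, hGa, hGw⟩ := ext1 K g hr
      obtain ⟨G', hGa', hGw'⟩ := ext1 K g' fun h => hr ((hgg r).trans h)
      have h := (cond_toB sn S V).1 _ (G.comp j) (G'.comp j) (hloc _ G G' fun a => by
        rw [hGa, hGa']; exact congrArg _ (hgg a))
      refine (algebraMap K (AlgebraicClosure K)).injective ?_
      rw [← hGw, ← hGw']
      exact RingHom.congr_fun h ⟨_, hwV⟩
  · intro hsn K _ g x hx
    obtain rfl : x = w := hx
    by_cases hr : g (ε r) = 0
    · rw [key K g hr]; exact zero_mem _
    · obtain ⟨G, hGa, hGw⟩ := ext1 K g hr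
      have h := (cond_toB sn S V).2 hsn _ (G.comp j) ⟨_, hwV⟩
      let F := Subfield.closure (Set.range fun a => g (ε a))
      have hF : Subfield.closure (Set.range ((G.comp j).comp (toB sn S V))) ≤
          F.map (algebraMap K (AlgebraicClosure K)) := by
        refine Subfield.closure_le.mpr ?_
        rintro _ ⟨b, rfl⟩
        letI : Algebra Γ(S, U.1) Γ(S, V) := (S.presheaf.map (homOfLE hle).op).hom.toAlgebra
        haveI : IsLocalization.Away r Γ(S, V) := U.2.isLocalization_basicOpen r
        obtain ⟨⟨a, ⟨_, n, rfl⟩⟩, hb⟩ := IsLocalization.surj (Submonoid.powers r) b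
        have ha : ∀ a, G (j (toB sn S V (algebraMap Γ(S, U.1) Γ(S, V) a))) = algebraMap K _ (g (ε a)) := hGa
        have h1 := congrArg ((G.comp j).comp (toB sn S V)) hb
        simp only [map_mul, map_pow, RingHom.comp_apply, ha] at h1
        have hne : algebraMap K (AlgebraicClosure K) (g (ε r)) ^ n ≠ 0 :=
          pow_ne_zero _ ((map_ne_zero_iff _ (RingHom.injective _)).mpr hr)
        rw [SetLike.mem_coe, RingHom.comp_apply, RingHom.comp_apply, eq_div_of_mul_eq hne h1]
        exact div_mem (Subfield.mem_map.mpr ⟨_, Subfield.subset_closure ⟨a, rfl⟩, rfl⟩)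
          (pow_mem (Subfield.mem_map.mpr ⟨g (ε r), Subfield.subset_closure ⟨r, rfl⟩, rfl⟩ :
            algebraMap K (AlgebraicClosure K) (g (ε r)) ∈ F.map (algebraMap K (AlgebraicClosure K))) n)
      obtain ⟨y, hy, hye⟩ := Subfield.mem_map.mp (hF h)
      rw [show G.comp j ⟨_, hwV⟩ = algebraMap K _ (g ⟨w, Subring.subset_closure (Or.inr rfl)⟩) from hGw] at hye
      rw [← (algebraMap K (AlgebraicClosure K)).injective hye]
      exact hy

lemma coequifibered : (diagramMap sn S).Coequifibered := by
  refine coequifibered_iff_forall_isLocalizationAway.mpr fun U r => ?_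
  let Ur : S.affineOpens := U.basicOpen r
  have hle : Ur.1 ≤ U.1 := S.basicOpen_le r
  letI : Algebra Γ(S, U.1) Γ(S, Ur.1) := (S.presheaf.map (homOfLE hle).op).hom.toAlgebra
  haveI : IsLocalization.Away r Γ(S, Ur.1) := U.2.isLocalization_basicOpen r
  set r' : bSub sn S U.1 := toB sn S U.1 r
  let ρ : bSub sn S U.1 →+* bSub sn S Ur.1 :=
    (resPts S hle).restrict _ _ fun x hx => resPts_mem_bSub sn S hle hx
  show @IsLocalization.Away _ _ r' (bSub sn S Ur.1) _ ρ.toAlgebra
  letI := ρ.toAlgebra
  refine (isLocalization_iff _ _).mpr ⟨?_, ?_, ?_⟩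
  · rintro ⟨_, k, rfl⟩
    show IsUnit (ρ (r' ^ k))
    rw [map_pow]
    refine IsUnit.pow k ?_
    have hu : IsUnit (algebraMap Γ(S, U.1) Γ(S, Ur.1) r) := IsLocalization.Away.algebraMap_isUnit r
    have := hu.map (toB sn S Ur.1)
    convert this using 1
    exact Subtype.ext (resPts_evalPts S hle r)
  · rintro ⟨z, hz⟩
    obtain ⟨k, w, hw, hwz⟩ := exists_extension sn S U r hz
    refine ⟨⟨⟨w, hw⟩, ⟨r' ^ k, k, rfl⟩⟩, Subtype.ext ?_⟩
    show z * resPts S hle ((r' ^ k : bSub sn S U.1) : ptsProd S U.1) = resPts S hle w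
    rw [SubmonoidClass.coe_pow, map_pow]
    exact hwz
  · intro x y hxy
    refine ⟨⟨r' ^ 1, 1, rfl⟩, Subtype.ext (funext fun s => ?_)⟩
    show ((r' ^ 1 : bSub sn S U.1) : ptsProd S U.1) s * x.1 s = ((r' ^ 1 : bSub sn S U.1) : ptsProd S U.1) s * y.1 s
    rw [pow_one]
    show evalPts S U.1 r s * x.1 s = evalPts S U.1 r s * y.1 s
    by_cases h : s.1 ∈ Ur.1
    · have h1 : x.1 s = y.1 s := congrFun (congrArg Subtype.val hxy) ⟨s.1, h⟩
      rw [h1]
    · have h0 : evalPts S U.1 r s = 0 := by
        show algebraMap _ _ (S.evaluation U.1 s.1 s.2 r) = 0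
        rw [(Scheme.evaluation_eq_zero_iff_notMem_basicOpen S s.1 s.2 r).mpr h, map_zero]
      rw [h0, zero_mul, zero_mul]

instance : ((relativeGluingData (coequifibered sn S)).functor ⋙ Scheme.forget).IsLocallyDirected :=
  Scheme.Cover.RelativeGluingData.instIsLocallyDirectedI₀CompFunctorForgetOfIsThin ..

/-- The glued scheme. -/
def norm : Scheme.{u} := (relativeGluingData (coequifibered sn S)).glued

/-- Its structure map. -/
def normToBase : norm sn S ⟶ S := (relativeGluingData (coequifibered sn S)).toBase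

/-- Its affine charts. -/
def chart (U : S.affineOpens) : Spec (.of (bSub sn S U.1)) ⟶ norm sn S :=
  (relativeGluingData (coequifibered sn S)).cover.f U

instance (U : S.affineOpens) : IsOpenImmersion (chart sn S U) :=
  inferInstanceAs (IsOpenImmersion ((relativeGluingData (coequifibered sn S)).cover.f U))

lemma chart_toBase (U : S.affineOpens) :
    chart sn S U ≫ normToBase sn S = Spec.map (CommRingCat.ofHom (toB sn S U.1)) ≫ U.2.fromSpec :=
  colimit.ι_desc _ _

lemma toBase_preimage (U : S.affineOpens) : normToBase sn S ⁻¹ᵁ U.1 = (chart sn S U).opensRange := by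
  simpa using! (relativeGluingData (coequifibered sn S)).toBase_preimage_eq_opensRange_ι U

lemma spec_surjective (U : S.affineOpens) : Function.Surjective (PrimeSpectrum.comap (toB sn S U.1)) := by
  intro p
  let s : U.1 := ⟨U.2.fromSpec p, U.2.range_fromSpec.le ⟨p, rfl⟩⟩
  refine ⟨⟨RingHom.ker ((Pi.evalRingHom (fun s : U.1 => AlgebraicClosure (S.residueField s.1)) s).comp
    (bSub sn S U.1).subtype), RingHom.ker_isPrime _⟩, ?_⟩
  have hp : p = U.2.primeIdealOf s := U.2.fromSpec.isOpenEmbedding.injective (U.2.fromSpec_primeIdealOf s).symm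
  rw [hp]
  refine PrimeSpectrum.ext ?_
  rw [primeIdealOf_eq_ker]
  ext a
  exact map_eq_zero (algebraMap (S.residueField s.1) (AlgebraicClosure (S.residueField s.1)))

lemma condHom_toB (U : S.affineOpens) : CondHom sn (Spec.map (CommRingCat.ofHom (toB sn S U.1))) := by
  refine (condHom_spec_iff _).mpr ⟨fun z => ?_, cond_toB sn S U.1, spec_surjective sn S U⟩
  obtain ⟨p, hp, hpz⟩ := bSub_le sn S U.1 z.2
  refine ⟨p, hp, Subtype.ext ?_⟩
  show (bSub sn S U.1).subtype _ = 0
  rw [Polynomial.hom_eval₂]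
  exact hpz

lemma isPullback_chart (U : S.affineOpens) :
    IsPullback (chart sn S U) (Spec.map (CommRingCat.ofHom (toB sn S U.1))) (normToBase sn S) U.2.fromSpec := by
  refine (IsOpenImmersion.isPullback _ _ _ _ (chart_toBase sn S U) ?_).flip
  rw [U.2.opensRange_fromSpec]
  exact toBase_preimage sn S U

instance : IsIntegralHom (normToBase sn S) := by
  rw [IsZariskiLocalAtTarget.iff_of_iSup_eq_top (P := @IsIntegralHom) (fun U : S.affineOpens => U.1) (iSup_affineOpens_eq_top S)]
  intro U
  let e := IsOpenImmersion.isoOfRangeEq (normToBase sn S ⁻¹ᵁ U.1).ι (chart sn S U)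
    (by simpa using congr($(toBase_preimage sn S U).1))
  rw [← MorphismProperty.cancel_left_of_respectsIso @IsIntegralHom e.inv,
    ← MorphismProperty.cancel_right_of_respectsIso @IsIntegralHom _ U.2.isoSpec.hom]
  convert! (condHom_toB sn S U).integral
  rw [← cancel_mono U.2.fromSpec]
  simp [IsAffineOpen.isoSpec_hom, e, chart_toBase]

lemma exists_chart_eq (t : norm sn S) :
    ∃ (U : S.affineOpens) (P : PrimeSpectrum (bSub sn S U.1)), chart sn S U P = t :=
  (relativeGluingData (coequifibered sn S)).cover.exists_eq t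

lemma condHom_normToBase : CondHom sn (normToBase sn S) := by
  refine ⟨(isUnivHomeo_iff _).mpr ⟨inferInstance, ?_, ⟨fun s => ?_⟩⟩, fun hs t => ?_⟩
  · rw [IsZariskiLocalAtTarget.iff_of_iSup_eq_top (P := @UniversallyInjective) (fun U : S.affineOpens => U.1) (iSup_affineOpens_eq_top S)]
    intro U
    let e := IsOpenImmersion.isoOfRangeEq (normToBase sn S ⁻¹ᵁ U.1).ι (chart sn S U)
      (by simpa using congr($(toBase_preimage sn S U).1))
    rw [← MorphismProperty.cancel_left_of_respectsIso @UniversallyInjective e.inv,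
      ← MorphismProperty.cancel_right_of_respectsIso @UniversallyInjective _ U.2.isoSpec.hom]
    convert! (condHom_toB sn S U).univInj
    rw [← cancel_mono U.2.fromSpec]
    simp [IsAffineOpen.isoSpec_hom, e, chart_toBase]
  · obtain ⟨U, hU, hsU, -⟩ := exists_isAffineOpen_mem_and_subset (U := (⊤ : S.Opens)) (x := s) trivial
    obtain ⟨P, hP⟩ := spec_surjective sn S ⟨U, hU⟩ (hU.primeIdealOf ⟨s, hsU⟩)
    refine ⟨chart sn S ⟨U, hU⟩ P, ?_⟩
    rw [← Scheme.Hom.comp_apply, chart_toBase, Scheme.Hom.comp_apply]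
    exact (congrArg _ hP).trans (hU.fromSpec_primeIdealOf ⟨s, hsU⟩)
  · obtain ⟨U, P, rfl⟩ := exists_chart_eq sn S t
    have h1 : IsIso ((chart sn S U ≫ normToBase sn S).residueFieldMap P) := by
      rw [Scheme.Hom.residueFieldMap_congr (chart_toBase sn S U), Scheme.residueFieldMap_comp]
      haveI := (condHom_toB sn S U).2 hs P
      infer_instance
    rw [Scheme.residueFieldMap_comp] at h1
    haveI := h1
    exact IsIso.of_isIso_comp_right _ ((chart sn S U).residueFieldMap P)

instance (U : S.Opens) : _root_.IsReduced (bSub sn S U) :=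
  isReduced_of_injective (bSub sn S U).subtype Subtype.val_injective

instance : IsReduced (norm sn S) :=
  @IsReduced.of_openCover _ (relativeGluingData (coequifibered sn S)).cover
    (fun U => inferInstanceAs (IsReduced (Spec (CommRingCat.of (bSub sn S U.1)))))

/-- The construction is locally universal. -/
theorem locUniv : LocUniv sn (normToBase sn S) := by
  refine ⟨inferInstance, condHom_normToBase sn S, fun V Y _ j _ π hπ => ?_⟩
  let U : S.affineOpens := ⟨j.opensRange, isAffineOpen_opensRange j⟩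
  haveI := hπ.integral
  haveI : IsAffine Y := isAffine_of_isAffineHom π
  let k : V ⟶ Spec Γ(S, U.1) := IsOpenImmersion.lift U.2.fromSpec j (by rw [U.2.range_fromSpec]; rfl)
  haveI : IsIso k := by
    haveI : IsOpenImmersion (k ≫ U.2.fromSpec) := by rw [IsOpenImmersion.lift_fac]; infer_instance
    haveI : IsOpenImmersion k := IsOpenImmersion.of_comp k U.2.fromSpec
    haveI : Epi k.base := (TopCat.epi_iff_surjective _).mpr fun p => by
      obtain ⟨v, hv⟩ : U.2.fromSpec p ∈ Set.range j := U.2.range_fromSpec.le ⟨p, rfl⟩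
      refine ⟨v, U.2.fromSpec.isOpenEmbedding.injective ?_⟩
      rw [← Scheme.Hom.comp_apply, IsOpenImmersion.lift_fac]
      exact hv
    exact IsOpenImmersion.isIso k
  obtain ⟨ψ, hψ⟩ := Spec.map_surjective (Y.isoSpec.inv ≫ π ≫ k)
  have hc : CondHom sn (Spec.map (CommRingCat.ofHom ψ.hom)) := by
    rw [CommRingCat.ofHom_hom, hψ]
    exact (condHom_of_isIso _).comp (hπ.comp (condHom_of_isIso k))
  obtain ⟨hψi, hψc, hψs⟩ := (condHom_spec_iff _).mp hc
  letI := ψ.hom.toAlgebra
  letI := (evalPts S U.1).toAlgebra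
  haveI : Algebra.IsIntegral Γ(S, U.1) Γ(Y, ⊤) := ⟨hψi⟩
  obtain ⟨χ⟩ := exists_algHom_condSub (sn := sn) (A := Γ(S, U.1)) (C := Γ(Y, ⊤))
    (F := fun s : U.1 => AlgebraicClosure (S.residueField s.1)) hψc hψs
  let χ' : Γ(Y, ⊤) →+* bSub sn S U.1 := χ.toRingHom
  have hχ : Spec.map (CommRingCat.ofHom χ') ≫ Spec.map ψ = Spec.map (CommRingCat.ofHom (toB sn S U.1)) := by
    rw [← Spec.map_comp]
    exact congrArg Spec.map (CommRingCat.hom_ext (RingHom.ext fun a => χ.commutes a))
  let l : pullback (normToBase sn S) j ⟶ Spec (.of (bSub sn S U.1)) :=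
    (isPullback_chart sn S U).lift (pullback.fst _ _) (pullback.snd _ _ ≫ k)
      (by rw [Category.assoc, IsOpenImmersion.lift_fac, pullback.condition])
  refine ⟨l ≫ Spec.map (CommRingCat.ofHom χ') ≫ Y.isoSpec.inv, ?_⟩
  rw [← cancel_mono k]
  simp only [Category.assoc]
  rw [← hψ, hχ, IsPullback.lift_snd]

end Groth.Agent.AWN
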