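import Mathlib
import Groth.Agent.AWN.Glue
import Groth.Agent.AWN.Factor

/-!
# Finite universal homeomorphisms containing given sections of the absolute weak normalisation

Given finitely many sections `z i` of `bSub` over affine opens `U i` of a Noetherian scheme, extend them by zero
to global functions on points; the algebras generated by `J i ^ n * z i` glue to a finite universal homeomorphism.
-/

set_option backward.isDefEq.respectTransparency false

noncomputable section

universe u

namespace Groth.Agent.AWN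

open CategoryTheory Limits AlgebraicGeometry TopologicalSpace Scheme.AffineZariskiSite AICPoint

variable (sn : Prop) (S : Scheme.{u})

/-- Data: sections over finitely many affine opens, with ideal sheaves. -/
structure SecData where
  /-- Index. -/
  idx : Type u
  /-- Ideal sheaves. -/
  J : idx → S.IdealSheafData
  /-- Global functions on points. -/
  z : idx → ptsProd S ⊤
  /-- Exponent. -/
  n : ℕ

variable {S} (D : SecData S)

/-- The generators. -/
def gens (U : S.affineOpens) : Set (ptsProd S U.1) :=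
  {x | ∃ i, ∃ j ∈ (D.J i).ideal U ^ D.n, x = evalPts S U.1 j * resPts S le_top (D.z i)}

/-- The algebras. -/
def fsub (U : S.affineOpens) : Subring (ptsProd S U.1) :=
  Subring.closure (Set.range (evalPts S U.1) ∪ gens D U)

lemma evalPts_mem_fsub (U : S.affineOpens) (a : Γ(S, U.1)) : evalPts S U.1 a ∈ fsub D U :=
  Subring.subset_closure (Or.inl ⟨a, rfl⟩)

lemma resPts_mem_fsub {U V : S.affineOpens} (h : U.1 ≤ V.1) {x : ptsProd S V.1} (hx : x ∈ fsub D V) :
    resPts S h x ∈ fsub D U := by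
  induction hx using Subring.closure_induction with
  | mem x hx =>
    rcases hx with ⟨a, rfl⟩ | ⟨i, j, hj, rfl⟩
    · rw [resPts_evalPts]; exact evalPts_mem_fsub D U _
    · rw [map_mul, resPts_evalPts]
      refine Subring.subset_closure (Or.inr ⟨i, _, ?_, rfl⟩)
      rw [← (D.J i).map_ideal (show U ≤ V from h), ← Ideal.map_pow]
      exact Ideal.mem_map_of_mem _ hj
  | zero => rw [map_zero]; exact zero_mem _
  | one => rw [map_one]; exact one_mem _
  | add x y _ _ hx hy => rw [map_add]; exact add_mem hx hy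
  | neg x _ hx => rw [map_neg]; exact neg_mem hx
  | mul x y _ _ hx hy => rw [map_mul]; exact mul_mem hx hy

/-- The presheaf of rings on the affine opens. -/
def fdiagram : S.AffineZariskiSiteᵒᵖ ⥤ CommRingCat.{u} where
  obj U := .of (fsub D U.unop)
  map {V U} i := CommRingCat.ofHom ((resPts S (toOpens_mono i.unop.le)).restrict _ _
    fun x hx => resPts_mem_fsub D (toOpens_mono i.unop.le) hx)
  map_id U := by
    ext x
    rfl
  map_comp i j := by
    ext x
    rfl

/-- The structure map. -/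
def toF (U : S.affineOpens) : Γ(S, U.1) →+* fsub D U := (evalPts S U.1).codRestrict _ (evalPts_mem_fsub D U)

/-- The structure maps. -/
def fdiagramMap : (toOpensFunctor S).op ⋙ S.presheaf ⟶ fdiagram D where
  app U := CommRingCat.ofHom (toF D U.unop)
  naturality {V U} i := by
    ext a
    apply Subtype.ext
    exact (resPts_evalPts S (toOpens_mono i.unop.le) a).symm

lemma fcoequifibered : (fdiagramMap D).Coequifibered := by
  refine coequifibered_iff_forall_isLocalizationAway.mpr fun U r => ?_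
  let Ur : S.affineOpens := U.basicOpen r
  have hle : Ur.1 ≤ U.1 := S.basicOpen_le r
  letI : Algebra Γ(S, U.1) Γ(S, Ur.1) := (S.presheaf.map (homOfLE hle).op).hom.toAlgebra
  haveI : IsLocalization.Away r Γ(S, Ur.1) := U.2.isLocalization_basicOpen r
  set r' : fsub D U := toF D U r
  let ρ : fsub D U →+* fsub D Ur := (resPts S hle).restrict _ _ fun x hx => resPts_mem_fsub D (U := Ur) hle hx
  show @IsLocalization.Away _ _ r' (fsub D Ur) _ ρ.toAlgebra
  letI := ρ.toAlgebra
  refine (isLocalization_iff _ _).mpr ⟨?_, ?_, ?_⟩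
  · rintro ⟨_, k, rfl⟩
    show IsUnit (ρ (r' ^ k))
    rw [map_pow]
    refine IsUnit.pow k ?_
    have hu : IsUnit (algebraMap Γ(S, U.1) Γ(S, Ur.1) r) := IsLocalization.Away.algebraMap_isUnit r
    have := hu.map (toF D Ur)
    convert this using 1
    exact Subtype.ext (resPts_evalPts S hle r)
  · rintro ⟨x, hx⟩
    suffices ∃ (k : ℕ) (y : fsub D U), x * (resPts S hle (evalPts S U.1 r)) ^ k = resPts S hle y.1 by
      obtain ⟨k, y, hy⟩ := this
      exact ⟨⟨y, r' ^ k, k, rfl⟩, Subtype.ext (by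
        show x * resPts S hle ((r' ^ k : fsub D U) : ptsProd S U.1) = resPts S hle y.1
        rw [SubmonoidClass.coe_pow, map_pow]; exact hy)⟩
    induction hx using Subring.closure_induction with
    | mem x hx =>
      rcases hx with ⟨a, rfl⟩ | ⟨i, j, hj, rfl⟩
      · obtain ⟨⟨b, ⟨_, k, rfl⟩⟩, hb⟩ := IsLocalization.surj (Submonoid.powers r) (S := Γ(S, Ur.1)) a
        refine ⟨k, toF D U b, ?_⟩
        show _ = resPts S hle (evalPts S U.1 b)
        rw [← map_pow, ← map_pow, resPts_evalPts, resPts_evalPts]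
        exact (map_mul _ _ _).symm.trans (congrArg (evalPts S Ur.1) hb)
      · rw [← (D.J i).map_ideal (show Ur ≤ U from hle), ← Ideal.map_pow] at hj
        obtain ⟨⟨⟨b, hb'⟩, ⟨_, k, rfl⟩⟩, hb⟩ :=
          (IsLocalization.mem_map_algebraMap_iff (Submonoid.powers r) Γ(S, Ur.1)).mp hj
        refine ⟨k, ⟨_, Subring.subset_closure (Or.inr ⟨i, b, hb', rfl⟩)⟩, ?_⟩
        show _ = resPts S hle (evalPts S U.1 b * resPts S le_top (D.z i))
        rw [map_mul, resPts_evalPts, mul_right_comm, ← map_pow, ← map_pow, resPts_evalPts]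
        exact congrArg (· * _) ((map_mul _ _ _).symm.trans (congrArg (evalPts S Ur.1) hb))
    | zero => exact ⟨0, 0, by simp⟩
    | one => exact ⟨0, 1, by simp⟩
    | add a b _ _ ha hb =>
      obtain ⟨k, y, hy⟩ := ha
      obtain ⟨l, y', hy'⟩ := hb
      refine ⟨k + l, r' ^ l * y + r' ^ k * y', ?_⟩
      push_cast
      rw [map_add, map_mul, map_mul, map_pow, map_pow, ← hy, ← hy']
      show _ = resPts S hle (evalPts S U.1 r) ^ l * _ + resPts S hle (evalPts S U.1 r) ^ k * _
      ring
    | neg a _ ha =>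
      obtain ⟨k, y, hy⟩ := ha
      exact ⟨k, -y, by push_cast; rw [map_neg, ← hy]; ring⟩
    | mul a b _ _ ha hb =>
      obtain ⟨k, y, hy⟩ := ha
      obtain ⟨l, y', hy'⟩ := hb
      exact ⟨k + l, y * y', by push_cast; rw [map_mul, ← hy, ← hy']; ring⟩
  · intro x y hxy
    refine ⟨⟨r' ^ 1, 1, rfl⟩, Subtype.ext (funext fun s => ?_)⟩
    show ((r' ^ 1 : fsub D U) : ptsProd S U.1) s * x.1 s = ((r' ^ 1 : fsub D U) : ptsProd S U.1) s * y.1 s
    rw [pow_one]
    show evalPts S U.1 r s * x.1 s = evalPts S U.1 r s * y.1 s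
    by_cases h : s.1 ∈ Ur.1
    · have h1 : x.1 s = y.1 s := congrFun (congrArg Subtype.val hxy) ⟨s.1, h⟩
      rw [h1]
    · have h0 : evalPts S U.1 r s = 0 := by
        show algebraMap _ _ (S.evaluation U.1 s.1 s.2 r) = 0
        rw [(Scheme.evaluation_eq_zero_iff_notMem_basicOpen S s.1 s.2 r).mpr h, map_zero]
      rw [h0, zero_mul, zero_mul]

instance : ((relativeGluingData (fcoequifibered D)).functor ⋙ Scheme.forget).IsLocallyDirected :=
  Scheme.Cover.RelativeGluingData.instIsLocallyDirectedI₀CompFunctorForgetOfIsThin ..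

/-- The glued scheme. -/
def fnorm : Scheme.{u} := (relativeGluingData (fcoequifibered D)).glued

/-- Its structure map. -/
def fnormToBase : fnorm D ⟶ S := (relativeGluingData (fcoequifibered D)).toBase

/-- Its affine charts. -/
def fchart (U : S.affineOpens) : Spec (.of (fsub D U)) ⟶ fnorm D :=
  (relativeGluingData (fcoequifibered D)).cover.f U

instance (U : S.affineOpens) : IsOpenImmersion (fchart D U) :=
  inferInstanceAs (IsOpenImmersion ((relativeGluingData (fcoequifibered D)).cover.f U))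

lemma fchart_toBase (U : S.affineOpens) :
    fchart D U ≫ fnormToBase D = Spec.map (CommRingCat.ofHom (toF D U)) ≫ U.2.fromSpec :=
  colimit.ι_desc _ _

lemma ftoBase_preimage (U : S.affineOpens) : fnormToBase D ⁻¹ᵁ U.1 = (fchart D U).opensRange := by
  simpa using! (relativeGluingData (fcoequifibered D)).toBase_preimage_eq_opensRange_ι U

lemma fprop_of_cover {P : MorphismProperty Scheme.{u}} [IsZariskiLocalAtTarget P] {ι : Type u}
    (V : ι → S.affineOpens) (hV : ⨆ i, (V i).1 = ⊤) (h : ∀ i, P (Spec.map (CommRingCat.ofHom (toF D (V i))))) :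
    P (fnormToBase D) := by
  rw [IsZariskiLocalAtTarget.iff_of_iSup_eq_top (P := P) _ hV]
  intro i
  have hi := h i
  generalize V i = U at hi ⊢
  let e := IsOpenImmersion.isoOfRangeEq (fnormToBase D ⁻¹ᵁ U.1).ι (fchart D U)
    (by simpa using congr($(ftoBase_preimage D U).1))
  rw [← MorphismProperty.cancel_left_of_respectsIso P e.inv,
    ← MorphismProperty.cancel_right_of_respectsIso P _ U.2.isoSpec.hom]
  convert! hi
  rw [← cancel_mono U.2.fromSpec]
  simp [IsAffineOpen.isoSpec_hom, e, fchart_toBase]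

variable {sn}

/-- Inside `bSub`, the condition holds. -/
lemma cond_toF {U : S.affineOpens} (h : fsub D U ≤ bSub sn S U.1) : Cond sn (toF D U) := by
  let i : fsub D U →+* bSub sn S U.1 := Subring.inclusion h
  have hi : i.IsIntegral := fun x => by
    obtain ⟨p, hp, hpx⟩ := bSub_le sn S U.1 x.2
    refine ⟨p.map (toF D U), hp.map _, Subtype.ext ?_⟩
    show (bSub sn S U.1).subtype _ = 0
    rw [Polynomial.eval₂_map, Polynomial.hom_eval₂]
    exact hpx
  have hker : ∀ {L : Type u} [Field L] (g : fsub D U →+* L), RingHom.ker i ≤ RingHom.ker g := fun g x hx => by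
    rw [RingHom.mem_ker] at hx ⊢
    rw [show x = 0 from Subring.inclusion_injective h (hx.trans (map_zero _).symm), map_zero]
  refine ⟨fun K _ g g' hgg => ?_, fun hsn K _ g b => ?_⟩
  · obtain ⟨G, hG⟩ := exists_extend_field i hi ((algebraMap K (AlgebraicClosure K)).comp g) (hker _)
    obtain ⟨G', hG'⟩ := exists_extend_field i hi ((algebraMap K (AlgebraicClosure K)).comp g') (hker _)
    have hGG : G = G' := (cond_toB sn S U.1).1 _ G G' (by
      rw [show toB sn S U.1 = i.comp (toF D U) from rfl, ← RingHom.comp_assoc, ← RingHom.comp_assoc, hG, hG',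
        RingHom.comp_assoc, RingHom.comp_assoc, hgg])
    exact RingHom.ext fun x => (algebraMap K (AlgebraicClosure K)).injective
      ((RingHom.congr_fun hG x).symm.trans ((RingHom.congr_fun hGG (i x)).trans (RingHom.congr_fun hG' x)))
  · obtain ⟨G, hG⟩ := exists_extend_field i hi ((algebraMap K (AlgebraicClosure K)).comp g) (hker _)
    have h1 := (cond_toB sn S U.1).2 hsn _ G (i b)
    rw [show G (i b) = algebraMap K (AlgebraicClosure K) (g b) from RingHom.congr_fun hG b] at h1
    have h2 : Set.range (G.comp (toB sn S U.1)) = algebraMap K (AlgebraicClosure K) '' Set.range (g.comp (toF D U)) := by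
      rw [show toB sn S U.1 = i.comp (toF D U) from rfl, ← RingHom.comp_assoc, hG, ← Set.range_comp]
      rfl
    rw [h2, ← RingHom.map_field_closure] at h1
    obtain ⟨y, hy, hye⟩ := Subfield.mem_map.mp h1
    rwa [← (algebraMap K (AlgebraicClosure K)).injective hye]

lemma isFinite_toF [IsNoetherian S] {U : S.affineOpens} [Finite D.idx] (h : fsub D U ≤ bSub sn S U.1) :
    (toF D U).Finite := by
  classical
  letI := (evalPts S U.1).toAlgebra
  haveI : IsNoetherianRing Γ(S, U.1) := IsLocallyNoetherian.component_noetherian U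
  choose s hs using fun i => (IsNoetherian.noetherian ((D.J i).ideal U ^ D.n) : ((D.J i).ideal U ^ D.n).FG)
  let t : Set (ptsProd S U.1) := ⋃ i, (fun j => evalPts S U.1 j * resPts S le_top (D.z i)) '' (s i : Set Γ(S, U.1))
  have htsub : t ⊆ gens D U := by
    simp only [t, Set.iUnion_subset_iff]
    rintro i _ ⟨j, hj, rfl⟩
    exact ⟨i, j, hs i ▸ Submodule.subset_span hj, rfl⟩
  have htfin : t.Finite := Set.finite_iUnion fun i => (s i).finite_toSet.image _
  have hfin : (Algebra.adjoin Γ(S, U.1) t).toSubmodule.FG :=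
    fg_adjoin_of_finite htfin fun x hx => bSub_le sn S U.1 (h (Subring.subset_closure (Or.inr (htsub hx))))
  have heq : fsub D U = (Algebra.adjoin Γ(S, U.1) t).toSubring := by
    apply le_antisymm
    · refine Subring.closure_le.mpr ?_
      rintro x (⟨a, rfl⟩ | ⟨i, j, hj, rfl⟩)
      · exact (Algebra.adjoin Γ(S, U.1) t).algebraMap_mem a
      · rw [← hs i] at hj
        show _ ∈ Algebra.adjoin Γ(S, U.1) t
        induction hj using Submodule.span_induction with
        | mem j hj => exact Algebra.subset_adjoin (Set.mem_iUnion.mpr ⟨i, j, hj, rfl⟩)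
        | zero => rw [map_zero, zero_mul]; exact zero_mem _
        | add a b _ _ ha hb => rw [map_add, add_mul]; exact add_mem ha hb
        | smul c a _ ha =>
          rw [smul_eq_mul, map_mul, mul_assoc]
          exact mul_mem ((Algebra.adjoin Γ(S, U.1) t).algebraMap_mem c) ha
    · rw [Algebra.adjoin_eq_ring_closure]
      exact Subring.closure_mono (Set.union_subset_union le_rfl htsub)
  haveI : Module.Finite Γ(S, U.1) (Algebra.adjoin Γ(S, U.1) t) := ⟨(Submodule.fg_top _).mpr hfin⟩
  let e : Algebra.adjoin Γ(S, U.1) t ≃+* fsub D U := RingEquiv.subringCongr heq.symm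
  have hg : toF D U = (e : _ →+* fsub D U).comp (algebraMap Γ(S, U.1) (Algebra.adjoin Γ(S, U.1) t)) := by
    ext a; rfl
  rw [hg]
  exact RingHom.Finite.comp e.finite (RingHom.finite_algebraMap.mpr ‹_›)

/-- Every point of the base lifts to a chart. -/
lemma fspec_surjective (U : S.affineOpens) : Function.Surjective (PrimeSpectrum.comap (toF D U)) := by
  intro p
  let s : U.1 := ⟨U.2.fromSpec p, U.2.range_fromSpec.le ⟨p, rfl⟩⟩
  refine ⟨⟨RingHom.ker ((Pi.evalRingHom (fun s : U.1 => AlgebraicClosure (S.residueField s.1)) s).comp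
    (fsub D U).subtype), RingHom.ker_isPrime _⟩, ?_⟩
  have hp : p = U.2.primeIdealOf s := U.2.fromSpec.isOpenEmbedding.injective (U.2.fromSpec_primeIdealOf s).symm
  rw [hp]
  refine PrimeSpectrum.ext ?_
  rw [primeIdealOf_eq_ker]
  ext a
  exact map_eq_zero (algebraMap (S.residueField s.1) (AlgebraicClosure (S.residueField s.1)))

/-- Inside `bSub` on a cover, the glued map satisfies the condition. -/
lemma condHom_fnormToBase {κ : Type u} (V : κ → S.affineOpens) (hV : ⨆ i, (V i).1 = ⊤)
    (hsub : ∀ i, fsub D (V i) ≤ bSub sn S (V i).1) : CondHom sn (fnormToBase D) := by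
  have hint : ∀ i, (toF D (V i)).IsIntegral := fun i z => by
    obtain ⟨p, hp, hpz⟩ := bSub_le sn S _ (hsub i z.2)
    refine ⟨p, hp, Subtype.ext ?_⟩
    show (fsub D (V i)).subtype _ = 0
    rw [Polynomial.hom_eval₂]
    exact hpz
  have hc : ∀ i, CondHom sn (Spec.map (CommRingCat.ofHom (toF D (V i)))) := fun i =>
    (condHom_spec_iff _).mpr ⟨hint i, cond_toF D (hsub i), fspec_surjective D (V i)⟩
  refine ⟨(isUnivHomeo_iff _).mpr ⟨fprop_of_cover (P := @IsIntegralHom) D V hV fun i => (hc i).integral,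
    fprop_of_cover (P := @UniversallyInjective) D V hV fun i => (hc i).univInj,
    fprop_of_cover (P := @Surjective) D V hV fun i => ((isUnivHomeo_iff _).mp (hc i).1).2.2⟩, fun hs x => ?_⟩
  obtain ⟨i, hi⟩ := Opens.mem_iSup.mp (hV.ge (trivial : fnormToBase D x ∈ (⊤ : S.Opens)))
  obtain ⟨P, rfl⟩ : x ∈ (fchart D (V i)).opensRange := by rw [← ftoBase_preimage]; exact hi
  have h1 : IsIso ((fchart D (V i) ≫ fnormToBase D).residueFieldMap P) := by
    rw [Scheme.Hom.residueFieldMap_congr (fchart_toBase D (V i)), Scheme.residueFieldMap_comp]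
    haveI := (hc i).2 hs P
    infer_instance
  rw [Scheme.residueFieldMap_comp] at h1
  haveI := h1
  exact IsIso.of_isIso_comp_right _ ((fchart D (V i)).residueFieldMap P)

variable (sn)

/-- Finitely many sections of `bSub` live on a finite universal homeomorphism. -/
theorem exists_secData [IsNoetherian S] {ι : Type u} [Finite ι] (U : ι → S.affineOpens)
    (z : ∀ i, bSub sn S (U i).1) :
    ∃ D : SecData S, IsFinite (fnormToBase D) ∧ CondHom sn (fnormToBase D) ∧ IsReduced (fnorm D) ∧
      ∀ i, (z i).1 ∈ fsub D (U i) ∧ fsub D (U i) ≤ bSub sn S (U i).1 := by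
  classical
  let z0 : ι → ptsProd S ⊤ := fun i s => if h : s.1 ∈ (U i).1 then (z i).1 ⟨s.1, h⟩ else 0
  let J : ι → S.IdealSheafData := fun i => Scheme.IdealSheafData.vanishingIdeal
    ⟨((U i).1 : Set S)ᶜ, (U i).1.isOpen.isClosed_compl⟩
  obtain ⟨s, hs, hscov⟩ : ∃ s : Set S.affineOpens, s.Finite ∧ ⨆ i : s, (i.1).1 = (⊤ : S.Opens) := by
    obtain ⟨s, hs⟩ := (CompactSpace.isCompact_univ (X := S)).elim_finite_subcover
      (fun V : S.affineOpens => (V.1 : Set S)) (fun V => V.1.isOpen)
      (fun y _ => by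
        obtain ⟨V, hV, hy, -⟩ := exists_isAffineOpen_mem_and_subset (U := (⊤ : S.Opens)) (x := y) trivial
        exact Set.mem_iUnion.mpr ⟨⟨V, hV⟩, hy⟩)
    refine ⟨s, s.finite_toSet, top_le_iff.mp fun y _ => ?_⟩
    obtain ⟨V, hV, hy⟩ := Set.mem_iUnion₂.mp (hs (Set.mem_univ y))
    exact Opens.mem_iSup.mpr ⟨⟨V, hV⟩, hy⟩
  haveI : Finite s := hs.to_subtype
  have hbasic : ∀ i (V : S.affineOpens), ∀ j ∈ (J i).ideal V, S.basicOpen j ≤ (U i).1 := by
    intro i V j hj y hy
    by_contra hyU
    obtain ⟨p, rfl⟩ := V.2.range_fromSpec.ge (S.basicOpen_le j hy)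
    have h1 : j ∈ p.asIdeal := (PrimeSpectrum.mem_vanishingIdeal _ _).mp (by simpa [J] using hj) p hyU
    have h2 : p ∈ V.2.fromSpec ⁻¹ᵁ S.basicOpen j := hy
    rw [V.2.fromSpec_preimage_basicOpen] at h2
    exact h2 h1
  have hpow : ∀ i (V : S.affineOpens), ∀ j ∈ (J i).ideal V,
      ∃ N : ℕ, evalPts S V.1 j ^ N * resPts S le_top (z0 i) ∈ bSub sn S V.1 := by
    intro i V j hj
    have hle := hbasic i V j hj
    obtain ⟨k, w, hw, hwz⟩ := exists_extension sn S V j (resPts_mem_bSub sn S hle (z i).2)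
    refine ⟨k + 1, ?_⟩
    have heq : evalPts S V.1 j ^ (k + 1) * resPts S le_top (z0 i) = evalPts S V.1 j * w := by
      funext t
      simp only [Pi.mul_apply, Pi.pow_apply]
      by_cases ht : t.1 ∈ S.basicOpen j
      · have h1 := congrFun hwz ⟨t.1, ht⟩
        simp only [Pi.mul_apply, Pi.pow_apply] at h1
        have h2 : resPts S le_top (z0 i) t = (z i).1 ⟨t.1, hle ht⟩ := dif_pos (hle ht)
        rw [h2, pow_succ', mul_assoc, mul_comm (evalPts S V.1 j t ^ k)]
        exact congrArg (evalPts S V.1 j t * ·) h1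
      · have h0 : evalPts S V.1 j t = 0 := by
          show algebraMap _ _ (S.evaluation V.1 t.1 t.2 j) = 0
          rw [(Scheme.evaluation_eq_zero_iff_notMem_basicOpen S t.1 t.2 j).mpr ht, map_zero]
        rw [h0, zero_pow k.succ_ne_zero, zero_mul, zero_mul]
    rw [heq]
    exact mul_mem (evalPts_mem_bSub sn S V.1 j) hw
  have hn : ∀ i (V : S.affineOpens), ∃ n : ℕ, ∀ j ∈ (J i).ideal V ^ n,
      evalPts S V.1 j * resPts S le_top (z0 i) ∈ bSub sn S V.1 := by
    intro i V
    let I : Ideal Γ(S, V.1) :=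
      { carrier := {j | evalPts S V.1 j * resPts S le_top (z0 i) ∈ bSub sn S V.1}
        add_mem' := fun {a b} ha hb => by
          simp only [Set.mem_setOf_eq, map_add, add_mul]
          exact add_mem ha hb
        zero_mem' := by simp only [Set.mem_setOf_eq, map_zero, zero_mul]; exact zero_mem _
        smul_mem' := fun c a ha => by
          simp only [Set.mem_setOf_eq, smul_eq_mul, map_mul, mul_assoc]
          exact mul_mem (evalPts_mem_bSub sn S V.1 c) ha }
    have hI : (J i).ideal V ≤ I.radical := fun j hj => by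
      obtain ⟨N, hN⟩ := hpow i V j hj
      exact ⟨N, show evalPts S V.1 (j ^ N) * _ ∈ _ by rw [map_pow]; exact hN⟩
    haveI : IsNoetherianRing Γ(S, V.1) := IsLocallyNoetherian.component_noetherian V
    obtain ⟨n, hn⟩ := Ideal.exists_pow_le_of_le_radical_of_fg hI (IsNoetherian.noetherian _)
    exact ⟨n, fun j hj => hn hj⟩
  choose m hm using hn
  haveI : Fintype ι := Fintype.ofFinite ι
  haveI : Fintype s := Fintype.ofFinite s
  let V : ι ⊕ s → S.affineOpens := Sum.elim U (fun v => v.1)
  have hV : ⨆ v, (V v).1 = (⊤ : S.Opens) :=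
    top_le_iff.mp (hscov.ge.trans (iSup_le fun v => le_iSup (fun v => (V v).1) (Sum.inr v)))
  let n := Finset.univ.sup fun p : ι × (ι ⊕ s) => m p.1 (V p.2)
  let D : SecData S := ⟨ι, J, z0, n⟩
  haveI : Finite D.idx := ‹Finite ι›
  have hsub : ∀ v, fsub D (V v) ≤ bSub sn S (V v).1 := by
    intro v
    refine Subring.closure_le.mpr ?_
    rintro x (⟨a, rfl⟩ | ⟨i, j, hj, rfl⟩)
    · exact evalPts_mem_bSub sn S _ a
    · exact hm i (V v) j (Ideal.pow_le_pow_right
        (Finset.le_sup (f := fun p : ι × (ι ⊕ s) => m p.1 (V p.2)) (Finset.mem_univ (i, v))) hj)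
  refine ⟨D, fprop_of_cover (P := @IsFinite) D V hV fun v => (IsFinite.SpecMap_iff _).mpr
      (isFinite_toF D (hsub v)), condHom_fnormToBase D V hV hsub, ?_, fun i => ⟨?_, hsub (Sum.inl i)⟩⟩
  · exact @IsReduced.of_openCover _ (relativeGluingData (fcoequifibered D)).cover fun V => by
      haveI : _root_.IsReduced (fsub D V) := isReduced_of_injective (fsub D V).subtype Subtype.val_injective
      exact inferInstanceAs (IsReduced (Spec (CommRingCat.of (fsub D V))))
  · have hU : (J i).ideal (U i) = ⊤ := by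
      refine (Ideal.eq_top_iff_one _).mpr ?_
      simp only [J, Scheme.IdealSheafData.vanishingIdeal_ideal, PrimeSpectrum.mem_vanishingIdeal]
      exact fun p hp => absurd ((U i).2.range_fromSpec.le ⟨p, rfl⟩) hp
    refine Subring.subset_closure (Or.inr ⟨i, 1, ?_, ?_⟩)
    · rw [show D.J i = J i from rfl, hU, ← Ideal.one_eq_top, one_pow, Ideal.one_eq_top]; trivial
    · rw [map_one, one_mul]
      funext t
      show (z i).1 t = z0 i ⟨t.1, trivial⟩
      simp only [z0]
      rw [dif_pos t.2]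

variable {sn}

/-- An initial morphism is isomorphic to the constructed one. -/
theorem exists_iso_normToBase {S' : Scheme.{u}} {ν : S' ⟶ S} (hc : CondHom sn ν)
    (hu : ∀ (Y : Scheme.{u}) (π : Y ⟶ S), CondHom sn π → ∃! h : S' ⟶ Y, h ≫ π = ν) :
    ∃ e : S' ≅ norm sn S, e.hom ≫ normToBase sn S = ν := by
  have h0 := locUniv sn S
  obtain ⟨b, hb, -⟩ := hu _ _ h0.2.1
  obtain ⟨a, ha, -⟩ := h0.existsUnique _ ν hc
  refine ⟨⟨b, a, (hu _ ν hc).unique (by rw [Category.assoc, ha, hb]) (Category.id_comp _),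
    (h0.existsUnique _ _ h0.2.1).unique (by rw [Category.assoc, hb, ha]) (Category.id_comp _)⟩, hb⟩

/-- Morphisms descend along a surjection onto a reduced scheme, if they do so on an open cover. -/
theorem exists_desc {M N X : Scheme.{u}} [IsReduced M] [X.IsSeparated] (h : N ⟶ M) [Surjective h] (g : N ⟶ X)
    {κ : Type u} {Mt : κ → Scheme.{u}} (j : ∀ i, Mt i ⟶ M) [∀ i, IsOpenImmersion (j i)]
    (hj : ∀ x, ∃ i y, j i y = x) (m : ∀ i, Mt i ⟶ X)
    (hm : ∀ i, pullback.fst (j i) h ≫ m i = pullback.snd (j i) h ≫ g) :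
    ∃ g₁ : M ⟶ X, h ≫ g₁ = g := by
  let 𝒰 : M.OpenCover := ⟨⟨κ, Mt, j⟩, ⟨by simpa using hj, by simpa using fun i => ‹∀ i, IsOpenImmersion (j i)› i⟩⟩
  have hov : ∀ a b, pullback.fst (j a) (j b) ≫ m a = pullback.snd (j a) (j b) ≫ m b := by
    intro a b
    let p := pullback.fst (j a) (j b) ≫ j a
    haveI : IsReduced (pullback (j a) (j b)) := isReduced_of_isOpenImmersion p
    haveI : Surjective (pullback.fst p h) := MorphismProperty.pullback_fst _ _ ‹Surjective h›
    refine ext_of_isDominant (pullback.fst p h) ?_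
    let la : pullback p h ⟶ pullback (j a) h :=
      pullback.lift (pullback.fst p h ≫ pullback.fst (j a) (j b)) (pullback.snd p h)
        (by rw [Category.assoc, pullback.condition (f := p)])
    let lb : pullback p h ⟶ pullback (j b) h :=
      pullback.lift (pullback.fst p h ≫ pullback.snd (j a) (j b)) (pullback.snd p h)
        (by rw [Category.assoc, ← pullback.condition (f := p) (g := h), ← pullback.condition])
    have h1 := congrArg (la ≫ ·) (hm a)
    have h2 := congrArg (lb ≫ ·) (hm b)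
    simp only [la, lb, pullback.lift_fst_assoc, pullback.lift_snd_assoc, Category.assoc] at h1 h2
    exact h1.trans h2.symm
  refine ⟨𝒰.glueMorphisms m hov, Scheme.Cover.hom_ext (𝒰.pullback₁ h) _ _ fun i => ?_⟩
  show pullback.fst h (j i) ≫ h ≫ _ = pullback.fst h (j i) ≫ g
  rw [pullback.condition_assoc, show j i = 𝒰.f i from rfl, Scheme.Cover.ι_glueMorphisms]
  have := congrArg ((pullbackSymmetry h (j i)).hom ≫ ·) (hm i)
  simpa using this

/-- Morphisms from the normalisation to a separated scheme of finite type factor through finite universal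
homeomorphisms. -/
theorem exists_finite_factor {B X T : Scheme.{u}} [IsNoetherian T] [X.IsSeparated] [B.IsSeparated] (fX : X ⟶ B)
    [LocallyOfFiniteType fX] (fT : T ⟶ B) (g : norm sn T ⟶ X) (hg : g ≫ fX = normToBase sn T ≫ fT) :
    ∃ (T₁ : Scheme.{u}) (π : T₁ ⟶ T) (_ : IsFinite π) (_ : CondHom sn π) (g₁ : T₁ ⟶ X) (h : norm sn T ⟶ T₁),
      h ≫ π = normToBase sn T ∧ g₁ ≫ fX = π ≫ fT ∧ h ≫ g₁ = g := by
  classical
  have hc := condHom_normToBase sn T
  have hν := isHomeomorph_of_univHomeo hc.1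
  -- small affine pieces
  have hloc : ∀ t : T, ∃ (U : T.affineOpens) (W : X.Opens) (B₀ : B.Opens) (_ : IsAffineOpen W) (_ : IsAffineOpen B₀),
      W ≤ fX ⁻¹ᵁ B₀ ∧ U.1 ≤ fT ⁻¹ᵁ B₀ ∧ t ∈ U.1 ∧ normToBase sn T ⁻¹ᵁ U.1 ≤ g ⁻¹ᵁ W := by
    intro t
    obtain ⟨t', rfl⟩ := hν.surjective t
    obtain ⟨B₀, hB₀, htB, -⟩ := exists_isAffineOpen_mem_and_subset (U := (⊤ : B.Opens)) (x := fX (g t')) trivial
    obtain ⟨W, hW, htW, hWB⟩ := exists_isAffineOpen_mem_and_subset (U := fX ⁻¹ᵁ B₀) (x := g t') htB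
    let O : T.Opens := ⟨normToBase sn T '' (g ⁻¹ᵁ W), hν.isOpenMap _ (g ⁻¹ᵁ W).isOpen⟩
    obtain ⟨U, hU, htU, hUO⟩ := exists_isAffineOpen_mem_and_subset (U := O ⊓ fT ⁻¹ᵁ B₀) (x := normToBase sn T t')
      ⟨⟨t', htW, rfl⟩, by
        show fT _ ∈ B₀
        rw [← Scheme.Hom.comp_apply, ← hg, Scheme.Hom.comp_apply]; exact htB⟩
    refine ⟨⟨U, hU⟩, W, B₀, hW, hB₀, hWB, fun x hx => (hUO hx).2, htU, fun x hx => ?_⟩
    obtain ⟨y, hy, hyx⟩ := (hUO hx).1
    rwa [← hν.injective hyx]
  choose U W B₀ hW hB₀ hWB hUB htU hUW using hloc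
  obtain ⟨c, hc'⟩ := (CompactSpace.isCompact_univ (X := T)).elim_finite_subcover
    (fun t => ((U t).1 : Set T)) (fun t => (U t).1.isOpen) (fun t _ => Set.mem_iUnion.mpr ⟨t, htU t⟩)
  have hch : ∀ t, ∀ p, g (chart sn T (U t) p) ∈ W t := fun t p => hUW t (by
    rw [toBase_preimage]; exact ⟨p, rfl⟩)
  have hlift : ∀ t, ∃ χ : Γ(X, W t) →+* bSub sn T (U t).1,
      Spec.map (CommRingCat.ofHom χ) ≫ (hW t).fromSpec = chart sn T (U t) ≫ g ∧
      ∀ a : Γ(B, B₀ t), χ (fX.appLE (B₀ t) (W t) (hWB t) a) = toB sn T (U t).1 (fT.appLE (B₀ t) (U t).1 (hUB t) a) := by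
    intro t
    let m := IsOpenImmersion.lift (hW t).fromSpec (chart sn T (U t) ≫ g) (by
      rw [(hW t).range_fromSpec]
      rintro _ ⟨p, rfl⟩
      exact hch t p)
    obtain ⟨χ, hχ⟩ := Spec.map_surjective m
    refine ⟨χ.hom, by rw [CommRingCat.ofHom_hom, hχ, IsOpenImmersion.lift_fac], fun a => ?_⟩
    have h1 : Spec.map (fX.appLE (B₀ t) (W t) (hWB t) ≫ χ) ≫ (hB₀ t).fromSpec =
        Spec.map (fT.appLE (B₀ t) (U t).1 (hUB t) ≫ CommRingCat.ofHom (toB sn T (U t).1)) ≫ (hB₀ t).fromSpec := by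
      rw [Spec.map_comp, Category.assoc, IsAffineOpen.SpecMap_appLE_fromSpec fX (hB₀ t) (hW t) (hWB t), hχ, ← Category.assoc,
        IsOpenImmersion.lift_fac, Category.assoc, hg, ← Category.assoc, chart_toBase, Spec.map_comp, Category.assoc,
        Category.assoc, IsAffineOpen.SpecMap_appLE_fromSpec fT (hB₀ t) (U t).2 (hUB t)]
    exact congr($(Spec.map_injective ((cancel_mono _).mp h1)) a)
  choose χ hχ hχB using hlift
  have hgen : ∀ t, ∃ s : Finset Γ(X, W t), letI := (fX.appLE (B₀ t) (W t) (hWB t)).hom.toAlgebra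
      Algebra.adjoin Γ(B, B₀ t) (s : Set Γ(X, W t)) = ⊤ := fun t => by
    letI := (fX.appLE (B₀ t) (W t) (hWB t)).hom.toAlgebra
    exact (show Algebra.FiniteType Γ(B, B₀ t) Γ(X, W t) from fX.finiteType_appLE (hB₀ t) (hW t) (hWB t)).out
  choose gen hgen using hgen
  obtain ⟨D, hfin, hcond, hred, hmem⟩ := exists_secData sn (S := T) (ι := (Σ t : c, (gen t.1 : Finset _)) ⊕ c)
    (Sum.elim (fun i => U i.1.1) (fun t => U t.1))
    (Sum.rec (fun i => χ i.1.1 i.2.1) (fun t => 0))
  haveI := hfin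
  haveI := hred
  haveI := hcond.univInj
  obtain ⟨h, hh, -⟩ := (locUniv sn T).existsUnique (fnorm D) (fnormToBase D) hcond
  haveI : Surjective h := (condHom_of_surjective_factor hc (fnormToBase D) h hh).2
  have hle : ∀ t : c, fsub D (U t.1) ≤ bSub sn T (U t.1).1 := fun t => (hmem (Sum.inr t)).2
  have hcomp : ∀ t : c, Spec.map (CommRingCat.ofHom (Subring.inclusion (hle t))) ≫ fchart D (U t.1) =
      chart sn T (U t.1) ≫ h := by
    refine fun t => hom_ext (fnormToBase D) ?_
    rw [Category.assoc, fchart_toBase, Category.assoc, hh, chart_toBase, ← Category.assoc, ← Spec.map_comp]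
    rfl
  have hrange : ∀ (t : c) (a : Γ(X, W t.1)), (χ t.1 a).1 ∈ fsub D (U t.1) := by
    intro t a
    letI := (fX.appLE (B₀ t.1) (W t.1) (hWB t.1)).hom.toAlgebra
    have ha : a ∈ Algebra.adjoin Γ(B, B₀ t.1) (gen t.1 : Set Γ(X, W t.1)) := by rw [hgen]; trivial
    induction ha using Algebra.adjoin_induction with
    | mem y hy => exact (hmem (Sum.inl ⟨t, ⟨y, hy⟩⟩)).1
    | algebraMap b =>
      show (χ t.1 (fX.appLE (B₀ t.1) (W t.1) (hWB t.1) b)).1 ∈ _
      rw [hχB]; exact evalPts_mem_fsub D _ _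
    | add y z _ _ hy hz => rw [map_add]; exact add_mem hy hz
    | mul y z _ _ hy hz => rw [map_mul]; exact mul_mem hy hz
  let χ' : ∀ t : c, Γ(X, W t.1) →+* fsub D (U t.1) := fun t =>
    ((bSub sn T (U t.1).1).subtype.comp (χ t.1)).codRestrict (fsub D (U t.1)) (hrange t)
  have hχ' : ∀ t, (Subring.inclusion (hle t)).comp (χ' t) = χ t.1 := fun t => rfl
  obtain ⟨g₁, hg₁⟩ := exists_desc h g (fun t : c => fchart D (U t.1))
    (fun x => by
      obtain ⟨t, ht, hxt⟩ := Set.mem_iUnion₂.mp (hc' (Set.mem_univ (fnormToBase D x)))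
      obtain ⟨y, hy⟩ : x ∈ (fchart D (U t)).opensRange := by rw [← ftoBase_preimage]; exact hxt
      exact ⟨⟨t, ht⟩, y, hy⟩)
    (fun t => Spec.map (CommRingCat.ofHom (χ' t)) ≫ (hW t.1).fromSpec) (fun t => by
      let q := pullback.snd (fchart D (U t.1)) h
      let qt := IsOpenImmersion.lift (chart sn T (U t.1)) q (by
        rintro _ ⟨y, rfl⟩
        have : q y ∈ normToBase sn T ⁻¹ᵁ (U t.1).1 := by
          show normToBase sn T (q y) ∈ (U t.1).1
          rw [← hh, ← Scheme.Hom.comp_apply, ← Category.assoc, ← pullback.condition, Category.assoc, fchart_toBase,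
            Scheme.Hom.comp_apply, Scheme.Hom.comp_apply]
          exact (U t.1).2.range_fromSpec.le ⟨_, rfl⟩
        rw [toBase_preimage] at this
        exact this)
      have hqt : qt ≫ chart sn T (U t.1) = q := IsOpenImmersion.lift_fac _ _ _
      have hfst : pullback.fst (fchart D (U t.1)) h =
          qt ≫ Spec.map (CommRingCat.ofHom (Subring.inclusion (hle t))) := by
        rw [← cancel_mono (fchart D (U t.1)), Category.assoc, hcomp, reassoc_of% hqt, pullback.condition]
      rw [hfst, Category.assoc, ← Spec.map_comp_assoc, ← CommRingCat.ofHom_comp, hχ', hχ, reassoc_of% hqt])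
  refine ⟨fnorm D, fnormToBase D, hfin, hcond, g₁, h, hh, ext_of_isDominant h ?_, hg₁⟩
  rw [reassoc_of% hg₁, hg, reassoc_of% hh]

end Groth.Agent.AWN
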