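import Mathlib
import Groth.Prelude.Def_HTop2
import Groth.Agent.AWN.Glue
import Groth.Agent.UHTower.Tower

/-!
# Seminormal and absolutely weakly normal rings and schemes: universal characterisation

`N sn`: seminormal (`sn`) or absolutely weakly normal (`¬ sn`).
-/

set_option autoImplicit false
set_option backward.isDefEq.respectTransparency false

universe u

open CategoryTheory Limits AlgebraicGeometry

namespace Groth.Agent.AWN

open UHTower

variable (sn : Prop)

/-- Seminormal, resp. absolutely weakly normal, rings. -/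
def N (A : Type u) [CommRing A] : Prop :=
  HTop.IsSeminormalRing A ∧
    (¬ sn → ∀ p : ℕ, p.Prime → ∀ x y : A, (p : A) ^ p * x = y ^ p → ∃! a : A, x = a ^ p ∧ y = (p : A) * a)

/-- No nontrivial reduced extension with the condition. -/
def Cl (A : Type u) [CommRing A] : Prop :=
  _root_.IsReduced A ∧ ∀ (B : Type u) [CommRing B] (φ : A →+* B),
    CondHom sn (Spec.map (CommRingCat.ofHom φ)) → _root_.IsReduced B → Function.Bijective φ

theorem n_false_iff (A : Type u) [CommRing A] : N False A ↔ HTop.IsAWNRing A := by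
  simp [N, HTop.IsAWNRing]

theorem n_true_iff (A : Type u) [CommRing A] : N True A ↔ HTop.IsSeminormalRing A := by
  simp [N]

variable {sn}

theorem isReduced_of_seminormal {A : Type u} [CommRing A] (h : HTop.IsSeminormalRing A) :
    _root_.IsReduced A := by
  refine isReduced_iff_pow_one_lt 2 one_lt_two |>.mpr fun z hz => ?_
  obtain ⟨a, -, hu⟩ := h 0 0 (by simp)
  exact (hu z ⟨hz.symm, by rw [pow_succ, hz, zero_mul]⟩).trans (hu 0 ⟨by simp, by simp⟩).symm

theorem eq_of_sq_cube {B : Type u} [CommRing B] [_root_.IsReduced B] {a b : B} (h2 : a ^ 2 = b ^ 2)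
    (h3 : a ^ 3 = b ^ 3) : a = b := by
  refine sub_eq_zero.mp (IsNilpotent.eq_zero ⟨3, ?_⟩)
  linear_combination (-3 * b - 3 * a) * h2 + (4 : B) * h3

theorem eq_of_pow_mul {B : Type u} [CommRing B] [_root_.IsReduced B] {p : ℕ} (hp : p.Prime) {a b : B}
    (h1 : a ^ p = b ^ p) (h2 : (p : B) * a = (p : B) * b) : a = b := by
  refine sub_eq_zero.mp (IsNilpotent.eq_zero (nilpotent_iff_mem_prime.mpr fun q hq => ?_))
  haveI := hq
  rw [← Ideal.Quotient.eq]
  let m := Ideal.Quotient.mk q
  have h2' : (p : B ⧸ q) * (m a - m b) = 0 := by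
    rw [mul_sub, ← map_natCast m, ← map_mul, ← map_mul, h2, sub_self]
  rcases mul_eq_zero.mp h2' with hp0 | hab
  · haveI : Fact p.Prime := ⟨hp⟩
    haveI : CharP (B ⧸ q) p := by
      obtain ⟨c, hc⟩ := CharP.exists (B ⧸ q)
      rcases (Nat.dvd_prime hp).mp ((CharP.cast_eq_zero_iff (B ⧸ q) c p).mp hp0) with rfl | rfl
      · exact absurd rfl (CharP.char_ne_one (B ⧸ q) 1)
      · exact hc
    exact frobenius_inj (B ⧸ q) p (by rw [frobenius_def, frobenius_def, ← map_pow, ← map_pow, h1])
  · exact sub_eq_zero.mp hab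

theorem covered_of_condHom {A B : Type u} [CommRing A] [CommRing B] [Algebra A B]
    (h : CondHom sn (Spec.map (CommRingCat.ofHom (algebraMap A B)))) : Covered A B (¬ sn) := by
  classical
  intro x
  by_cases hs : sn
  · obtain ⟨l, hl, hE⟩ := covered_false h.1
      (fun z => by
        haveI := h.2 hs z
        exact (ConcreteCategory.bijective_of_isIso
          ((Spec.map (CommRingCat.ofHom (algebraMap A B))).residueFieldMap z)).2) {x}
    rw [show (¬ sn) = False by simp [hs]]
    exact ⟨l, hl, hE (by simp)⟩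
  · obtain ⟨l, hl, hE⟩ := covered_true h.1 {x}
    rw [show (¬ sn) = True by simp [hs]]
    exact ⟨l, hl, hE (by simp)⟩

theorem condHom_of_covered {A B : Type u} [CommRing A] [CommRing B] [Algebra A B]
    (hnil : RingHom.ker (algebraMap A B) ≤ nilradical A) (hc : Covered A B (¬ sn)) :
    CondHom sn (Spec.map (CommRingCat.ofHom (algebraMap A B))) := by
  refine ⟨univHomeo_of_covered hnil hc, fun hs x => ?_⟩
  rw [show (¬ sn) = False by simp [hs]] at hc
  rw [ConcreteCategory.isIso_iff_bijective]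
  exact ⟨RingHom.injective _, residue_of_covered hc x⟩

theorem N.cl {A : Type u} [CommRing A] (h : N sn A) : Cl sn A := by
  haveI := isReduced_of_seminormal h.1
  refine ⟨inferInstance, fun B _ φ hφ hB => ?_⟩
  letI : Algebra A B := φ.toAlgebra
  change CondHom sn (Spec.map (CommRingCat.ofHom (algebraMap A B))) at hφ
  have hinj : Function.Injective (algebraMap A B) := by
    rw [RingHom.injective_iff_ker_eq_bot, ← le_bot_iff]
    exact (of_univHomeo hφ.1).2.2.trans (nilradical_eq_zero A).le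
  refine ⟨hinj, fun b => ?_⟩
  have htop : (⊥ : Subalgebra A B) = ⊤ := eq_top_of_covered (covered_of_condHom hφ) (by
    intro b hb
    simp only [Algebra.mem_bot, Set.mem_range] at hb ⊢
    rcases hb with ⟨h2, h3⟩ | ⟨hs, p, hp, h1, h2⟩
    · simp only [Algebra.mem_bot, Set.mem_range] at h2 h3
      obtain ⟨x, hx⟩ := h2
      obtain ⟨y, hy⟩ := h3
      obtain ⟨a, ⟨ha1, ha2⟩, -⟩ := h.1 x y (hinj (by rw [map_pow, map_pow, hx, hy]; ring))
      exact ⟨a, eq_of_sq_cube (by rw [← map_pow, ← ha1, hx]) (by rw [← map_pow, ← ha2, hy])⟩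
    · simp only [Algebra.mem_bot, Set.mem_range] at h1 h2
      obtain ⟨y, hy⟩ := h1
      obtain ⟨x, hx⟩ := h2
      obtain ⟨a, ⟨ha1, ha2⟩, -⟩ := h.2 hs p hp x y (hinj (by
        rw [map_mul, map_pow, map_pow, hx, hy, map_natCast]; ring))
      exact ⟨a, eq_of_pow_mul hp (by rw [← map_pow, ← ha1, hx])
        (by rw [← map_natCast (algebraMap A B), ← map_mul, ← ha2, hy, map_natCast])⟩)
  have : b ∈ (⊥ : Subalgebra A B) := htop ▸ Algebra.mem_top
  exact Algebra.mem_bot.mp this

open Polynomial in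
/-- An equation system with a root in every field-valued point has a root in a `Cl` ring. -/
theorem Cl.exists_root {A : Type u} [CommRing A] (h : Cl sn A) (I : Ideal A[X])
    (hroot : ∀ (K : Type u) [Field K] [IsAlgClosed K] (g : A →+* K), ∃ t : K, ∀ f ∈ I, f.eval₂ g t = 0)
    (hstep : ∀ b : (A[X] ⧸ I.radical), b = Ideal.Quotient.mk I.radical X →
      Step (¬ sn) (⊥ : Subalgebra A (A[X] ⧸ I.radical)) b) :
    ∃ a : A, ∀ f ∈ I, f.eval a = 0 := by
  classical
  haveI := h.1
  haveI : _root_.IsReduced (A[X] ⧸ I.radical) :=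
    (Ideal.isRadical_iff_quotient_reduced _).mp I.radical_isRadical
  let b := Ideal.Quotient.mk I.radical (X : A[X])
  have hcov : Covered A (A[X] ⧸ I.radical) (¬ sn) := by
    intro x
    refine ⟨[b], (isTower_nil _).snoc (l := []) (by
      refine (hstep b rfl).mono bot_le), ?_⟩
    obtain ⟨f, rfl⟩ := Ideal.Quotient.mk_surjective x
    have he : Ideal.Quotient.mk I.radical f = aeval b f := by
      rw [show b = Ideal.Quotient.mkₐ A I.radical X from rfl, aeval_algHom_apply, aeval_X_left_apply,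
        Ideal.Quotient.mkₐ_eq_mk]
    rw [he]
    exact Algebra.adjoin_mono (s := {b}) (by simp) (aeval_mem_adjoin_singleton A b)
  have hker : RingHom.ker (algebraMap A (A[X] ⧸ I.radical)) ≤ nilradical A := by
    intro a ha
    rw [RingHom.mem_ker, IsScalarTower.algebraMap_apply A A[X] (A[X] ⧸ I.radical),
      Ideal.Quotient.algebraMap_eq, Ideal.Quotient.eq_zero_iff_mem] at ha
    obtain ⟨n, hn⟩ := ha
    rw [nilradical, Ideal.radical_eq_sInf, Ideal.mem_sInf]
    rintro q ⟨-, hq⟩
    haveI := hq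
    let g : A →+* AlgebraicClosure q.ResidueField := (algebraMap _ _).comp (algebraMap A q.ResidueField)
    obtain ⟨t, ht⟩ := hroot _ g
    have h0 := ht _ hn
    rw [Polynomial.algebraMap_apply, Algebra.algebraMap_self, RingHom.id_apply, eval₂_pow, eval₂_C] at h0
    have : algebraMap A q.ResidueField a = 0 :=
      (map_eq_zero (algebraMap q.ResidueField (AlgebraicClosure q.ResidueField))).mp (eq_zero_of_pow_eq_zero h0)
    exact Ideal.algebraMap_residueField_eq_zero.mp this
  have hbij := h.2 _ _ (condHom_of_covered hker hcov) inferInstance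
  obtain ⟨a, ha⟩ := hbij.2 b
  refine ⟨a, fun f hf => hbij.1 ?_⟩
  rw [map_zero, ← aeval_algebraMap_apply_eq_algebraMap_eval, ha]
  rw [show b = Ideal.Quotient.mkₐ A I.radical X from rfl, aeval_algHom_apply, aeval_X_left_apply,
    Ideal.Quotient.mkₐ_eq_mk, Ideal.Quotient.eq_zero_iff_mem]
  exact Ideal.le_radical hf

open Polynomial in
theorem Cl.n {A : Type u} [CommRing A] (h : Cl sn A) : N sn A := by
  haveI := h.1
  refine ⟨fun x y hxy => ?_, fun hs p hp x y hxy => ?_⟩
  · let I : Ideal A[X] := Ideal.span {X ^ 2 - C x, X ^ 3 - C y}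
    obtain ⟨a, ha⟩ := h.exists_root I (fun K _ _ g => by
      have he : g x ^ 3 = g y ^ 2 := by rw [← map_pow, hxy, map_pow]
      obtain ⟨t, ht2, ht3⟩ : ∃ t : K, t ^ 2 = g x ∧ t ^ 3 = g y := by
        by_cases hx : g x = 0
        · refine ⟨0, by simp [hx], ?_⟩
          rw [hx, zero_pow three_ne_zero, eq_comm, pow_eq_zero_iff two_ne_zero] at he
          simp [he]
        · exact ⟨g y / g x, by field_simp; linear_combination -he,
            by field_simp; linear_combination -(g y) * he⟩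
      refine ⟨t, fun f hf => ?_⟩
      have hle : I ≤ RingHom.ker (eval₂RingHom g t) := by
        rw [Ideal.span_le]
        rintro _ (rfl | rfl) <;> simp [ht2, ht3]
      exact hle hf) (by
      rintro b rfl
      refine .inl ⟨Algebra.mem_bot.mpr ⟨x, ?_⟩, Algebra.mem_bot.mpr ⟨y, ?_⟩⟩
      · rw [← map_pow, IsScalarTower.algebraMap_apply A A[X] (A[X] ⧸ I.radical), Ideal.Quotient.algebraMap_eq,
          Ideal.Quotient.eq, ← neg_sub, neg_mem_iff]
        exact Ideal.le_radical (Ideal.subset_span (Or.inl (by simp)))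
      · rw [← map_pow, IsScalarTower.algebraMap_apply A A[X] (A[X] ⧸ I.radical), Ideal.Quotient.algebraMap_eq,
          Ideal.Quotient.eq, ← neg_sub, neg_mem_iff]
        exact Ideal.le_radical (Ideal.subset_span (Or.inr (by simp))))
    have h2 : a ^ 2 = x := by simpa [sub_eq_zero] using ha _ (Ideal.subset_span (Or.inl rfl))
    have h3 : a ^ 3 = y := by simpa [sub_eq_zero] using ha _ (Ideal.subset_span (Or.inr rfl))
    exact ⟨a, ⟨h2.symm, h3.symm⟩, fun a' ha' => eq_of_sq_cube (ha'.1.symm.trans h2.symm) (ha'.2.symm.trans h3.symm)⟩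
  · let I : Ideal A[X] := Ideal.span {X ^ p - C x, C (p : A) * X - C y}
    obtain ⟨a, ha⟩ := h.exists_root I (fun K _ _ g => by
      have he : (p : K) ^ p * g x = g y ^ p := by
        rw [← map_natCast g p, ← map_pow, ← map_mul, hxy, map_pow]
      obtain ⟨t, ht2, ht3⟩ : ∃ t : K, t ^ p = g x ∧ (p : K) * t = g y := by
        by_cases hp0 : (p : K) = 0
        · obtain ⟨t, ht⟩ := IsAlgClosed.exists_pow_nat_eq (g x) hp.pos
          rw [hp0, zero_pow hp.ne_zero, zero_mul, eq_comm, pow_eq_zero_iff hp.ne_zero] at he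
          exact ⟨t, ht, by simp [hp0, he]⟩
        · refine ⟨g y / p, ?_, by field_simp⟩
          rw [div_pow, div_eq_iff (pow_ne_zero _ hp0), ← he, mul_comm]
      refine ⟨t, fun f hf => ?_⟩
      have hle : I ≤ RingHom.ker (eval₂RingHom g t) := by
        rw [Ideal.span_le]
        rintro _ (rfl | rfl) <;> simp [ht2, ← ht3]
      exact hle hf) (by
      rintro b rfl
      refine .inr ⟨hs, p, hp, Algebra.mem_bot.mpr ⟨y, ?_⟩, Algebra.mem_bot.mpr ⟨x, ?_⟩⟩
      · rw [← map_natCast (Ideal.Quotient.mk I.radical), ← map_mul,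
          IsScalarTower.algebraMap_apply A A[X] (A[X] ⧸ I.radical), Ideal.Quotient.algebraMap_eq,
          Ideal.Quotient.eq, ← neg_sub, neg_mem_iff]
        exact Ideal.le_radical (Ideal.subset_span (Or.inr (by simp)))
      · rw [← map_pow, IsScalarTower.algebraMap_apply A A[X] (A[X] ⧸ I.radical), Ideal.Quotient.algebraMap_eq,
          Ideal.Quotient.eq, ← neg_sub, neg_mem_iff]
        exact Ideal.le_radical (Ideal.subset_span (Or.inl (by simp))))
    have h2 : a ^ p = x := by simpa [sub_eq_zero] using ha _ (Ideal.subset_span (Or.inl rfl))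
    have h3 : (p : A) * a = y := by simpa [sub_eq_zero] using ha _ (Ideal.subset_span (Or.inr rfl))
    exact ⟨a, ⟨h2.symm, h3.symm⟩, fun a' ha' => eq_of_pow_mul hp (ha'.1.symm.trans h2.symm) (ha'.2.symm.trans h3.symm)⟩

theorem n_iff_cl {A : Type u} [CommRing A] : N sn A ↔ Cl sn A := ⟨N.cl, Cl.n⟩

variable (sn) in
/-- Seminormal, resp. absolutely weakly normal, schemes. -/
def IsN (X : Scheme.{u}) : Prop := ∀ x : X, ∃ U : X.affineOpens, x ∈ (U : X.Opens) ∧ N sn Γ(X, U)

theorem IsN.isReduced {X : Scheme.{u}} (h : IsN sn X) : IsReduced X := by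
  haveI : ∀ x : X, _root_.IsReduced (X.presheaf.stalk x) := fun x => by
    obtain ⟨U, hxU, hU⟩ := h x
    haveI := isReduced_of_seminormal hU.1
    letI : Algebra Γ(X, U) (X.presheaf.stalk x) := (X.presheaf.germ U x hxU).hom.toAlgebra
    haveI := U.2.isLocalization_stalk ⟨x, hxU⟩
    exact isReduced_localizationPreserves (U.2.primeIdealOf ⟨x, hxU⟩).asIdeal.primeCompl (X.presheaf.stalk x) inferInstance
  exact isReduced_of_isReduced_stalk X

theorem condHom_SpecMap_appTop {X Y : Scheme.{u}} [IsAffine X] [IsAffine Y] {g : X ⟶ Y} (hg : CondHom sn g) :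
    CondHom sn (Spec.map g.appTop) := by
  rw [show Spec.map g.appTop = X.isoSpec.inv ≫ g ≫ Y.isoSpec.hom by
    rw [← Scheme.isoSpec_inv_naturality_assoc, Iso.inv_hom_id, Category.comp_id]]
  exact (condHom_of_isIso _).comp (hg.comp (condHom_of_isIso _))

theorem IsN.isIso {X : Scheme.{u}} (h : IsN sn X) {Y : Scheme.{u}} (π : Y ⟶ X) (hπ : CondHom sn π)
    [IsReduced Y] : IsIso π := by
  choose U hxU hU using h
  refine (IsZariskiLocalAtTarget.iff_of_iSup_eq_top (P := MorphismProperty.isomorphisms Scheme.{u})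
    (fun x => (U x : X.Opens)) ?_).mpr fun x => ?_
  · exact TopologicalSpace.Opens.ext (Set.eq_univ_of_forall fun x => by
      simpa using ⟨x, hxU x⟩)
  have hc : CondHom sn (π ∣_ (U x : X.Opens)) := hπ.of_isPullback (isPullback_morphismRestrict π _).flip
  haveI := hπ.integral
  haveI : IsAffine (U x : X.Opens) := (U x).2
  haveI : IsAffine (π ⁻¹ᵁ (U x : X.Opens)).toScheme := (U x).2.preimage π
  have hNU : N sn Γ((U x : X.Opens).toScheme, ⊤) := by
    have e := ((U x : X.Opens).topIso).commRingCatIsoToRingEquiv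
    refine Cl.n ⟨(letI := isReduced_of_seminormal (hU x).1; isReduced_of_injective e e.injective), fun B _ φ hφ hB => ?_⟩
    have hc2 : CondHom sn (Spec.map (CommRingCat.ofHom (φ.comp e.symm.toRingHom))) := by
      rw [CommRingCat.ofHom_comp, Spec.map_comp]
      haveI : IsIso (CommRingCat.ofHom e.symm.toRingHom) := (e.symm.toCommRingCatIso).isIso_hom
      exact hφ.comp (condHom_of_isIso _)
    have := (hU x).cl.2 B _ hc2 hB
    exact (Function.Bijective.of_comp_iff φ e.symm.bijective).mp this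
  have hbij := hNU.cl.2 _ (π ∣_ (U x : X.Opens)).appTop.hom (condHom_SpecMap_appTop hc) inferInstance
  haveI : IsIso (π ∣_ (U x : X.Opens)).appTop := (ConcreteCategory.isIso_iff_bijective _).mpr hbij
  show IsIso _
  exact (isIso_comp_right_iff _ (U x : X.Opens).toScheme.isoSpec.hom).mp (by
    rw [← Scheme.isoSpec_hom_naturality]
    infer_instance)

theorem exists_reduced_condHom (Y : Scheme.{u}) :
    ∃ (Y' : Scheme.{u}) (ν : Y' ⟶ Y), IsReduced Y' ∧ CondHom sn ν :=
  ⟨norm sn Y, normToBase sn Y, (locUniv sn Y).1, (locUniv sn Y).2.1⟩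

theorem IsN.existsUnique_section {X : Scheme.{u}} (h : IsN sn X) (Y : Scheme.{u}) (π : Y ⟶ X)
    (hπ : CondHom sn π) : ∃! g : X ⟶ Y, g ≫ π = 𝟙 X := by
  haveI := h.isReduced
  obtain ⟨Y', ν, hY', hν⟩ := exists_reduced_condHom (sn := sn) Y
  haveI := h.isIso _ (hν.comp hπ)
  haveI := hπ.integral
  haveI := hπ.univInj
  exact ⟨inv (ν ≫ π) ≫ ν, by simp, fun g hg => hom_ext π (by simp [hg])⟩

theorem n_of_forall_isIso {X : Scheme.{u}}
    (h : ∀ (Y : Scheme.{u}) (π : Y ⟶ X), CondHom sn π → IsReduced Y → IsIso π) (U : X.affineOpens) :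
    N sn Γ(X, U) := by
  have hu := locUniv sn X
  haveI := hu.1
  haveI := h _ _ hu.2.1 hu.1
  haveI : IsReduced X := isReduced_of_isOpenImmersion (inv (normToBase sn X))
  have hid : LocUniv sn (𝟙 X) := by
    simpa using hu.of_iso (inv (normToBase sn X))
  refine Cl.n ⟨inferInstance, fun B _ φ hφ hB => ?_⟩
  haveI : IsReduced (Spec (CommRingCat.of B)) := inferInstance
  let π : Spec (CommRingCat.of B) ⟶ (U : X.Opens).toScheme := Spec.map (CommRingCat.ofHom φ) ≫ U.2.isoSpec.inv
  have hπ : CondHom sn π := hφ.comp (condHom_of_isIso _)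
  obtain ⟨g, hg, -⟩ := (hid.restrict (U : X.Opens)).existsUnique _ π hπ
  haveI := hπ.integral
  haveI := hπ.univInj
  have hg' : inv ((𝟙 X) ∣_ (U : X.Opens)) ≫ g ≫ π = 𝟙 _ := by rw [hg, IsIso.inv_hom_id]
  haveI : IsIso π := ⟨inv ((𝟙 X) ∣_ (U : X.Opens)) ≫ g,
    hom_ext π (by
      simp only [Category.assoc, Category.id_comp]
      rw [hg', Category.comp_id]), by
      simp only [Category.assoc]
      rw [hg']⟩
  haveI : IsIso (Spec.map (CommRingCat.ofHom φ)) := (isIso_comp_right_iff _ U.2.isoSpec.inv).mp ‹IsIso π›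
  haveI : IsIso (Scheme.Spec.map (CommRingCat.ofHom φ).op) := ‹IsIso (Spec.map (CommRingCat.ofHom φ))›
  haveI : IsIso (CommRingCat.ofHom φ).op := isIso_of_reflects_iso _ Scheme.Spec
  haveI : IsIso (CommRingCat.ofHom φ) := isIso_of_op _
  exact ConcreteCategory.bijective_of_isIso (CommRingCat.ofHom φ)

theorem isN_iff_forall_n {X : Scheme.{u}} : IsN sn X ↔ ∀ U : X.affineOpens, N sn Γ(X, U) :=
  ⟨fun h => n_of_forall_isIso fun Y π hπ hY => h.isIso π hπ, fun h x => by
    obtain ⟨_, ⟨U, hU, rfl⟩, hxU, -⟩ :=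
      X.isBasis_affineOpens.exists_subset_of_mem_open (Set.mem_univ x) isOpen_univ
    exact ⟨⟨U, hU⟩, hxU, h _⟩⟩

theorem isN_iff_forall_isIso {X : Scheme.{u}} :
    IsN sn X ↔ ∀ (Y : Scheme.{u}) (π : Y ⟶ X), CondHom sn π → IsReduced Y → IsIso π :=
  ⟨fun h Y π hπ hY => h.isIso π hπ, fun h => isN_iff_forall_n.mpr (n_of_forall_isIso h)⟩

theorem isAWN_iff {X : Scheme.{u}} : HTop.IsAWN X ↔ IsN False X := by
  simp [HTop.IsAWN, IsN, n_false_iff]

theorem isSeminormal_iff {X : Scheme.{u}} : HTop.IsSeminormal X ↔ IsN True X := by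
  simp [HTop.IsSeminormal, IsN, n_true_iff]

end Groth.Agent.AWN
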