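import Groth.Agent.AWN.Normal
import Groth.Prelude.Def_Pi1

/-!
# Normal schemes are seminormal
-/

set_option autoImplicit false

universe u

open CategoryTheory AlgebraicGeometry

namespace Groth.Agent.AWN

open UHTower

theorem cl_of_localized {A : Type u} [CommRing A] [_root_.IsReduced A]
    (h : ∀ (p : Ideal A) [p.IsPrime], IsDomain (Localization.AtPrime p) ∧ IsIntegrallyClosed (Localization.AtPrime p)) :
    Cl True A := by
  refine ⟨inferInstance, fun B _ φ hφ hB => ?_⟩
  letI : Algebra A B := φ.toAlgebra
  change CondHom True (Spec.map (CommRingCat.ofHom (algebraMap A B))) at hφ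
  have hinj : Function.Injective (algebraMap A B) := by
    rw [RingHom.injective_iff_ker_eq_bot, ← le_bot_iff]
    exact (of_univHomeo hφ.1).2.2.trans (nilradical_eq_zero A).le
  refine ⟨hinj, fun b => ?_⟩
  have htop : (⊥ : Subalgebra A B) = ⊤ := eq_top_of_covered (covered_of_condHom hφ) (by
    intro b hb
    rcases hb with ⟨h2, h3⟩ | ⟨hs, -⟩
    swap; · exact absurd trivial hs
    obtain ⟨x, hx⟩ := Algebra.mem_bot.mp h2
    obtain ⟨y, hy⟩ := Algebra.mem_bot.mp h3
    have hxy : x ^ 3 = y ^ 2 := hinj (by rw [map_pow, map_pow, hx, hy]; ring)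
    let J : Ideal A :=
      { carrier := {d | algebraMap A B d * b ∈ (⊥ : Subalgebra A B)}
        add_mem' := fun {u v} hu hv => by
          show algebraMap A B (u + v) * b ∈ (⊥ : Subalgebra A B)
          rw [map_add, add_mul]; exact add_mem hu hv
        zero_mem' := by show algebraMap A B 0 * b ∈ (⊥ : Subalgebra A B); rw [map_zero, zero_mul]; exact zero_mem _
        smul_mem' := fun r u hu => by
          show algebraMap A B (r • u) * b ∈ (⊥ : Subalgebra A B)
          rw [smul_eq_mul, map_mul, mul_assoc]
          exact mul_mem (Subalgebra.algebraMap_mem _ r) hu }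
    suffices hJ : J = ⊤ by
      have h1 : (1 : A) ∈ J := hJ ▸ Submodule.mem_top
      change algebraMap A B 1 * b ∈ (⊥ : Subalgebra A B) at h1
      simpa using h1
    by_contra hne
    obtain ⟨p, hp, hJp⟩ := Ideal.exists_le_maximal J hne
    obtain ⟨hd, hic⟩ := h p
    let R := Localization.AtPrime p
    let S := Localization (Algebra.algebraMapSubmonoid B p.primeCompl)
    haveI : _root_.IsReduced S := isReduced_localizationPreserves (Algebra.algebraMapSubmonoid B p.primeCompl) S hB
    let K := FractionRing R
    obtain ⟨a, ha2, ha3⟩ : ∃ a : R, a ^ 2 = algebraMap A R x ∧ a ^ 3 = algebraMap A R y := by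
      have hxy' : algebraMap R K (algebraMap A R x) ^ 3 = algebraMap R K (algebraMap A R y) ^ 2 := by
        rw [← map_pow, ← map_pow, ← map_pow, ← map_pow, hxy]
      by_cases hx0 : algebraMap A R x = 0
      · refine ⟨0, by simp [hx0], ?_⟩
        rw [hx0, map_zero, zero_pow three_ne_zero, eq_comm, pow_eq_zero_iff two_ne_zero,
          map_eq_zero_iff _ (IsFractionRing.injective R K)] at hxy'
        simp [hxy']
      · have hxK : algebraMap R K (algebraMap A R x) ≠ 0 := by
          rwa [Ne, map_eq_zero_iff _ (IsFractionRing.injective R K)]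
        have hq2 : (algebraMap R K (algebraMap A R y) / algebraMap R K (algebraMap A R x)) ^ 2 =
            algebraMap R K (algebraMap A R x) := by
          rw [div_pow, div_eq_iff (pow_ne_zero _ hxK), ← hxy']; ring
        have hint : IsIntegral R (algebraMap R K (algebraMap A R y) / algebraMap R K (algebraMap A R x)) :=
          IsIntegral.of_pow two_pos (by rw [hq2]; exact isIntegral_algebraMap)
        obtain ⟨a, ha⟩ := IsIntegrallyClosed.isIntegral_iff.mp hint
        refine ⟨a, IsFractionRing.injective R K (by rw [map_pow, ha, hq2]), IsFractionRing.injective R K ?_⟩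
        rw [map_pow, ha, div_pow, div_eq_iff (pow_ne_zero _ hxK), hxy']
        ring
    have hab : algebraMap R S a = algebraMap B S b := eq_of_sq_cube
      (by rw [← map_pow, ha2, ← map_pow, ← hx, ← IsScalarTower.algebraMap_apply,
        ← IsScalarTower.algebraMap_apply])
      (by rw [← map_pow, ha3, ← map_pow, ← hy, ← IsScalarTower.algebraMap_apply,
        ← IsScalarTower.algebraMap_apply])
    obtain ⟨c, d, rfl⟩ := IsLocalization.exists_mk'_eq p.primeCompl a
    have h4 : algebraMap B S (algebraMap A B c) = algebraMap B S (algebraMap A B d * b) := by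
      rw [map_mul, ← hab, ← IsScalarTower.algebraMap_apply A B S, ← IsScalarTower.algebraMap_apply A B S,
        IsScalarTower.algebraMap_apply A R S, IsScalarTower.algebraMap_apply A R S, ← map_mul,
        IsLocalization.mk'_spec']
    obtain ⟨⟨_, e, he, rfl⟩, h5⟩ :=
      (IsLocalization.eq_iff_exists (Algebra.algebraMapSubmonoid B p.primeCompl) S).mp h4
    have : (e * d : A) ∈ J := by
      show algebraMap A B (e * d) * b ∈ (⊥ : Subalgebra A B)
      rw [map_mul, mul_assoc, ← h5, ← map_mul]
      exact Subalgebra.algebraMap_mem _ _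
    rcases (Ideal.IsPrime.mem_or_mem (hp.isPrime) (hJp this)) with h' | h'
    · exact he h'
    · exact d.2 h')
  exact Algebra.mem_bot.mp (htop ▸ Algebra.mem_top : b ∈ (⊥ : Subalgebra A B))

theorem isN_of_isNormalScheme {X : Scheme.{u}} (h : Pi1.IsNormalScheme X) : IsN True X := by
  haveI : ∀ x : X, _root_.IsReduced (X.presheaf.stalk x) := fun x => by
    haveI := (h x).1; infer_instance
  haveI := isReduced_of_isReduced_stalk X
  refine isN_iff_forall_n.mpr fun U => (cl_of_localized fun p hp => ?_).n
  obtain ⟨x, hx⟩ : ∃ x : U.1, (U.2.primeIdealOf x).asIdeal = p := by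
    refine ⟨⟨U.2.fromSpec ⟨p, hp⟩, U.2.opensRange_fromSpec.le ⟨_, rfl⟩⟩, ?_⟩
    exact congrArg PrimeSpectrum.asIdeal (U.2.fromSpec.isOpenEmbedding.injective
      (U.2.fromSpec_primeIdealOf _))
  subst hx
  letI : Algebra Γ(X, U.1) (X.presheaf.stalk x.1) := (X.presheaf.germ U.1 x.1 x.2).hom.toAlgebra
  haveI := U.2.isLocalization_stalk x
  let e := (IsLocalization.algEquiv (U.2.primeIdealOf x).asIdeal.primeCompl
    (Localization.AtPrime (U.2.primeIdealOf x).asIdeal) (X.presheaf.stalk x.1)).toRingEquiv
  obtain ⟨hd, hic⟩ := h x.1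
  haveI : IsDomain (Localization.AtPrime (U.2.primeIdealOf x).asIdeal) := e.toMulEquiv.isDomain _
  exact ⟨inferInstance, IsIntegrallyClosed.of_equiv e.symm⟩

end Groth.Agent.AWN
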