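import Groth.Agent.AWN.Normal
import Groth.Agent.S7423
import Groth.Agent.S7422

/-!
# Absolutely weakly normal rings of characteristic `p`
-/

set_option autoImplicit false

universe u

open CategoryTheory AlgebraicGeometry

namespace Groth.Agent.AWN

open UHTower

variable (p : ℕ) [Fact p.Prime]

theorem perfectRing_of_awn {A : Type u} [CommRing A] [Algebra (ZMod p) A] (h : HTop.IsAWNRing A) :
    PerfectRing A p := by
  rcases subsingleton_or_nontrivial A with hs | hs
  · exact ⟨fun _ _ _ => Subsingleton.elim _ _, fun x => ⟨0, Subsingleton.elim _ _⟩⟩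
  haveI : CharP A p := charP_of_injective_algebraMap (algebraMap (ZMod p) A).injective p
  haveI := isReduced_of_seminormal h.1
  refine PerfectRing.ofSurjective A p fun x => ?_
  obtain ⟨a, ⟨ha, -⟩, -⟩ := h.2 p Fact.out x 0 (by
    rw [CharP.cast_eq_zero, zero_pow (Fact.out : p.Prime).ne_zero, zero_mul])
  exact ⟨a, ha.symm⟩

theorem awn_of_perfectRing {A : Type u} [CommRing A] [Algebra (ZMod p) A] [PerfectRing A p] :
    HTop.IsAWNRing A := by
  rcases subsingleton_or_nontrivial A with hs | hs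
  · exact ⟨fun x y _ => ⟨0, ⟨Subsingleton.elim _ _, Subsingleton.elim _ _⟩, fun _ _ => Subsingleton.elim _ _⟩,
      fun q _ x y _ => ⟨0, ⟨Subsingleton.elim _ _, Subsingleton.elim _ _⟩, fun _ _ => Subsingleton.elim _ _⟩⟩
  haveI : CharP A p := charP_of_injective_algebraMap (algebraMap (ZMod p) A).injective p
  haveI : ExpChar A p := ExpChar.prime Fact.out
  haveI : _root_.IsReduced A := (isReduced_iff_pow_one_lt p (Fact.out : p.Prime).one_lt).mpr fun z hz =>
    (bijective_frobenius A p).1 (by rw [frobenius_def, map_zero, hz])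
  have hinj : ∀ (k : ℕ) (u v : A), u ^ p ^ k = v ^ p ^ k → u = v := fun k u v h =>
    (bijective_iterateFrobenius A p k).1 (by simpa [iterateFrobenius_def] using h)
  refine ⟨fun x y hxy => ?_, fun q hq x y hxy => ?_⟩
  · obtain ⟨m, n, hmn⟩ : ∃ m n : ℕ, 2 * m + 3 * n = p ^ 2 := by
      have h2 : 2 ≤ p := (Fact.out : p.Prime).two_le
      have h4 : 4 ≤ p ^ 2 := by nlinarith
      rcases Nat.even_or_odd (p ^ 2) with ⟨r, hr⟩ | ⟨r, hr⟩
      · exact ⟨r, 0, by omega⟩
      · exact ⟨r - 1, 1, by omega⟩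
    obtain ⟨a, ha⟩ := (bijective_iterateFrobenius A p 2).2 (x ^ m * y ^ n)
    rw [iterateFrobenius_def] at ha
    have ha2 : x = a ^ 2 := hinj 2 _ _ (by
      rw [← pow_mul, mul_comm 2 (p ^ 2), pow_mul a, ha, mul_pow, ← pow_mul, ← pow_mul, ← hmn,
        pow_add, pow_mul x 3 n, hxy, ← pow_mul, mul_comm 2 m, mul_comm 2 n])
    have ha3 : y = a ^ 3 := hinj 2 _ _ (by
      rw [← pow_mul, mul_comm 3 (p ^ 2), pow_mul a, ha, mul_pow, ← pow_mul, ← pow_mul, ← hmn,
        pow_add, pow_mul y 2 m, ← hxy, ← pow_mul, mul_comm 3 m, mul_comm 3 n])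
    exact ⟨a, ⟨ha2, ha3⟩, fun a' ha' => eq_of_sq_cube (ha'.1.symm.trans ha2) (ha'.2.symm.trans ha3)⟩
  · by_cases hqp : q = p
    · subst hqp
      rw [CharP.cast_eq_zero, zero_pow hq.ne_zero, zero_mul, eq_comm] at hxy
      have hy : y = 0 := eq_zero_of_pow_eq_zero hxy
      obtain ⟨a, ha⟩ := (bijective_frobenius A q).2 x
      rw [frobenius_def] at ha
      exact ⟨a, ⟨ha.symm, by rw [hy, CharP.cast_eq_zero, zero_mul]⟩, fun a' ha' =>
        (bijective_frobenius A q).1 (by rw [frobenius_def, frobenius_def, ← ha'.1, ha])⟩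
    · have hu : IsUnit (q : A) := by
        rw [← map_natCast (algebraMap (ZMod p) A)]
        refine (IsUnit.mk0 _ fun h0 => ?_).map _
        rw [ZMod.natCast_eq_zero_iff] at *
        exact hqp ((Nat.prime_dvd_prime_iff_eq Fact.out hq).mp h0).symm
      obtain ⟨v, hv⟩ := hu
      refine ⟨↑v⁻¹ * y, ⟨?_, by rw [← hv, Units.mul_inv_cancel_left]⟩, fun a' ha' => ?_⟩
      · rw [mul_pow, ← hxy, ← hv, ← mul_assoc, ← mul_pow, Units.inv_mul, one_pow, one_mul]
      · rw [ha'.2, ← hv, Units.inv_mul_cancel_left]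

theorem isUnivHomeo_perfectClosure_of (A : Type u) [CommRing A] [CharP A p] :
    FlatMor.IsUnivHomeo (Spec.map (CommRingCat.ofHom (PerfectClosure.of A p))) := by
  have hpow : ∀ b : PerfectClosure A p, ∃ (n : ℕ) (a : A), b ^ p ^ n = PerfectClosure.of A p a := by
    intro b
    obtain ⟨⟨n, x⟩, rfl⟩ := PerfectClosure.mk_surjective A p b
    exact ⟨n, x, by rw [← iterate_frobenius, PerfectClosure.iterate_frobenius_mk]⟩
  letI : Algebra A (PerfectClosure A p) := (PerfectClosure.of A p).toAlgebra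
  haveI : Algebra.IsIntegral A (PerfectClosure A p) := ⟨fun b => by
    obtain ⟨n, a, ha⟩ := hpow b
    exact IsIntegral.of_pow (pow_pos (Fact.out : p.Prime).pos n) (ha ▸ isIntegral_algebraMap)⟩
  refine (isUnivHomeo_spec_iff _).mpr ⟨Algebra.IsIntegral.isIntegral, fun K _ g g' hgg => RingHom.ext fun b => ?_,
    comap_surjective_of_nil fun a ha => ?_⟩
  · obtain ⟨n, a, ha⟩ := hpow b
    haveI : CharP K p := by
      rw [CharP.charP_iff_prime_eq_zero Fact.out]
      rw [← map_natCast (g.comp (PerfectClosure.of A p)), CharP.cast_eq_zero, map_zero]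
    have := congrArg g ha
    rw [show g (PerfectClosure.of A p a) = g' (PerfectClosure.of A p a) from RingHom.congr_fun hgg a, ← ha,
      map_pow, map_pow, ← iterate_frobenius, ← iterate_frobenius] at this
    exact (frobenius_inj K p).iterate n this
  · rw [RingHom.mem_ker] at ha
    change PerfectClosure.mk A p (0, a) = 0 at ha
    rw [PerfectClosure.zero_def, PerfectClosure.mk_eq_iff] at ha
    obtain ⟨z, hz⟩ := ha
    simp only [zero_add, iterate_frobenius] at hz
    exact ⟨p ^ z, by rwa [zero_pow (pow_ne_zero _ (Fact.out : p.Prime).ne_zero)] at hz⟩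

theorem isRingAWN_perfectClosure (A : Type u) [CommRing A] [CharP A p] :
    HTop.IsRingAWN (PerfectClosure.of A p) := by
  obtain ⟨W, hW, φ, hφ⟩ := S7422.result A
  have huh := isUnivHomeo_perfectClosure_of p A
  obtain ⟨χ, hχ, -⟩ := hφ.2 _ _ huh
  letI : Algebra (ZMod p) (PerfectClosure A p) := ZMod.algebra _ p
  have hbij : Function.Bijective χ :=
    (S7423.result φ hφ _ huh χ hχ).mpr (awn_of_perfectRing p)
  let e := RingEquiv.ofBijective χ hbij
  refine ⟨huh, fun C _ ψ hψ => ?_⟩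
  obtain ⟨τ, hτ, huniq⟩ := hφ.2 C ψ hψ
  refine ⟨e.symm.toRingHom.comp τ, RingHom.ext fun a => e.injective ?_, fun τ' hτ' => RingHom.ext fun c => e.injective ?_⟩
  · show e (e.symm (τ (ψ a))) = χ _
    rw [e.apply_symm_apply]
    exact (RingHom.congr_fun hτ a).trans (RingHom.congr_fun hχ a).symm
  · show χ (τ' c) = e (e.symm (τ c))
    rw [e.apply_symm_apply]
    exact RingHom.congr_fun (huniq (χ.comp τ') ((RingHom.comp_assoc ψ τ' χ).trans (by rw [hτ', hχ]))) c

end Groth.Agent.AWN
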