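import Groth.Agent.AWN.Normal

/-!
# Base change of morphisms with trivial residue fields and universally injective
-/

set_option autoImplicit false

universe u

open CategoryTheory Limits AlgebraicGeometry

namespace Groth.Agent.AWN

theorem resTriv_pullback {X Y S : Scheme.{u}} (ν : X ⟶ S) [UniversallyInjective ν] (π : Y ⟶ S)
    (hr : HTop.ResidueFieldsIso ν) : HTop.ResidueFieldsIso (pullback.snd ν π) := by
  intro z
  set p := pullback.snd ν π
  let y := p z
  have hxs : ν (pullback.fst ν π z) = π y := by
    rw [← Scheme.Hom.comp_apply, pullback.condition]; rfl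
  let x := pullback.fst ν π z
  haveI := hr x
  let a : Spec (Y.residueField y) ⟶ X :=
    Spec.map ((S.residueFieldCongr hxs).hom ≫ π.residueFieldMap y) |> fun m =>
      m ≫ Spec.map (inv (ν.residueFieldMap x)) ≫ X.fromSpecResidueField x
  have ha : a ≫ ν = Y.fromSpecResidueField y ≫ π := by
    simp only [a, Category.assoc]
    rw [← ν.SpecMap_residueFieldMap_fromSpecResidueField, ← Spec.map_comp_assoc, ← Spec.map_comp_assoc,
      IsIso.hom_inv_id_assoc, ← π.SpecMap_residueFieldMap_fromSpecResidueField, Spec.map_comp, Category.assoc]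
    congr 1
    exact Scheme.residueFieldCongr_fromSpecResidueField hxs
  let l : Spec (Y.residueField y) ⟶ pullback ν π := pullback.lift a (Y.fromSpecResidueField y) ha
  have hl : l ≫ p = Y.fromSpecResidueField y := pullback.lift_snd _ _ _
  haveI : UniversallyInjective p := MorphismProperty.pullback_snd ν π ‹UniversallyInjective ν›
  have hz : l default = z := p.injective (by
    rw [← Scheme.Hom.comp_apply, hl]; exact Scheme.fromSpecResidueField_apply _ _)
  rw [ConcreteCategory.isIso_iff_bijective]
  refine ⟨RingHom.injective _, ?_⟩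
  obtain ⟨w, ψ, hψ⟩ : ∃ w, ∃ ψ : (pullback ν π).residueField w ⟶ Y.residueField y,
      Spec.map ψ ≫ (pullback ν π).fromSpecResidueField w = l := by
    obtain ⟨⟨w, ψ⟩, h⟩ := (Scheme.SpecToEquivOfField (Y.residueField y) (pullback ν π)).symm.surjective l
    exact ⟨w, ψ, h⟩
  have hw : w = z := by
    rw [← hz, ← hψ, Scheme.Hom.comp_apply]
    exact (Scheme.fromSpecResidueField_apply _ _).symm
  subst hw
  have hcomp : p.residueFieldMap w ≫ ψ = 𝟙 _ := by
    apply Spec.map_injective
    rw [← cancel_mono (Y.fromSpecResidueField y), Spec.map_comp, Category.assoc,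
      Scheme.Hom.SpecMap_residueFieldMap_fromSpecResidueField, ← Category.assoc, hψ, hl, Spec.map_id,
      Category.id_comp]
  intro x
  refine ⟨ψ.hom x, ψ.hom.injective ?_⟩
  exact RingHom.congr_fun (congrArg CommRingCat.Hom.hom hcomp) (ψ.hom x)

end Groth.Agent.AWN
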